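import Cfsg.Agent.S0713
import Mathlib.GroupTheory.Perm.Centralizer
import Mathlib.GroupTheory.Sylow
import Mathlib.GroupTheory.GroupAction.Primitive

/-! Elements of permutation groups of degree eleven without short prime cycles. -/

set_option autoImplicit false

namespace Cfsg.Agent.Degree11

open Equiv Equiv.Perm

variable {α : Type*} [Fintype α] [DecidableEq α]

theorem fixed_card_add (g : Perm α) :
    (Finset.univ.filter fun x => g x = x).card + g.support.card = Fintype.card α := by
  rw [show g.support = Finset.univ.filter fun x => ¬ g x = x from by ext x; simp,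
    Finset.card_filter_add_card_filter_not, Finset.card_univ]

theorem isPreprimitive (hα : Fintype.card α = 11) (G : Subgroup (Perm α)) [MulAction.IsPretransitive G α] :
    MulAction.IsPreprimitive G α :=
  MulAction.IsPreprimitive.of_prime_card (by rw [Nat.card_eq_fintype_card, hα]; norm_num)

/-- The group has no cycle of prime length at most eight and does not contain the alternating group. -/
structure Good (G : Subgroup (Perm α)) : Prop where
  card : Fintype.card α = 11
  no_cycle : ∀ g ∈ G, g.IsCycle → g.support.card.Prime → g.support.card ≤ 8 → False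

theorem good_of_not_le (hα : Fintype.card α = 11) (G : Subgroup (Perm α)) [MulAction.IsPretransitive G α]
    (hA : ¬ alternatingGroup α ≤ G) : Good G :=
  ⟨hα, fun g hg hc hp h8 => hA (Cfsg.Agent.S0713.result G (isPreprimitive hα G) hp (by omega) (by omega) hc rfl hg)⟩

theorem Good.mono {G H : Subgroup (Perm α)} (h : Good G) (hle : H ≤ G) : Good H :=
  ⟨h.card, fun g hg => h.no_cycle g (hle hg)⟩

variable {G : Subgroup (Perm α)}

theorem Good.cycleType_prime (h : Good G) {g : Perm α} (hg : g ∈ G) {p : ℕ} (hp : p.Prime)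
    (ho : orderOf g = p) : ∃ m, g.cycleType = Multiset.replicate m p ∧ m * p ≤ 11 ∧ g.support.card = m * p ∧
      0 < m ∧ (p ≤ 8 → 2 ≤ m) := by
  obtain ⟨m, hm⟩ := Equiv.Perm.cycleType_prime_order (σ := g) (by rw [ho]; exact hp)
  rw [ho] at hm
  have hs : g.support.card = (m + 1) * p := by
    rw [← Equiv.Perm.sum_cycleType, hm, Multiset.sum_replicate, smul_eq_mul]
  have hle : g.support.card ≤ 11 := h.card ▸ Finset.card_le_univ _
  refine ⟨m + 1, hm, hs ▸ hle, hs, Nat.succ_pos _, fun h8 => ?_⟩
  by_contra hc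
  have h0 : m = 0 := by omega
  subst h0
  have hcyc : g.IsCycle := Equiv.Perm.card_cycleType_eq_one.mp (by rw [hm]; simp)
  rw [zero_add, one_mul] at hs
  exact h.no_cycle g hg hcyc (hs ▸ hp) (hs ▸ h8)

theorem Good.order_five (h : Good G) {g : Perm α} (hg : g ∈ G) (ho : orderOf g = 5) :
    g.cycleType = Multiset.replicate 2 5 ∧ ∃ ω, ∀ x, g x = x ↔ x = ω := by
  obtain ⟨m, hm, hle, hs, -, h2⟩ := h.cycleType_prime hg (by norm_num : Nat.Prime 5) ho
  have hm2 : m = 2 := by have := h2 (by norm_num); omega
  subst hm2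
  refine ⟨hm, ?_⟩
  have h1 := fixed_card_add g
  rw [hs, h.card] at h1
  obtain ⟨ω, hω⟩ := Finset.card_eq_one.mp (show (Finset.univ.filter fun x => g x = x).card = 1 by omega)
  exact ⟨ω, fun x => by simpa using Finset.ext_iff.mp hω x⟩

theorem Good.not_order_seven (h : Good G) {g : Perm α} (hg : g ∈ G) : orderOf g ≠ 7 := fun ho => by
  obtain ⟨m, -, hle, -, -, h2⟩ := h.cycleType_prime hg (by norm_num : Nat.Prime 7) ho
  have := h2 (by norm_num)
  omega

theorem Good.order_three (h : Good G) {g : Perm α} (hg : g ∈ G) (ho : orderOf g = 3) :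
    g.support.card = 6 ∨ g.support.card = 9 := by
  obtain ⟨m, -, hle, hs, -, h2⟩ := h.cycleType_prime hg Nat.prime_three ho
  have := h2 (by norm_num)
  omega

theorem Good.order_two (h : Good G) {g : Perm α} (hg : g ∈ G) (ho : orderOf g = 2) :
    ∃ m, 2 ≤ m ∧ m ≤ 5 ∧ g.support.card = 2 * m ∧ Perm.sign g = (-1) ^ m := by
  obtain ⟨m, hm, hle, hs, -, h2⟩ := h.cycleType_prime hg Nat.prime_two ho
  refine ⟨m, h2 (by norm_num), by omega, by omega, ?_⟩
  rw [Equiv.Perm.sign_of_cycleType, hm, Multiset.sum_replicate, Multiset.card_replicate, smul_eq_mul, pow_add,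
    mul_comm m 2, pow_mul]
  simp

theorem Good.order_eleven (h : Good G) {g : Perm α} (hg : g ∈ G) (ho : orderOf g = 11) :
    g.cycleType = {11} ∧ g.support = Finset.univ ∧ g ∈ alternatingGroup α := by
  obtain ⟨m, hm, hle, hs, hpos, -⟩ := h.cycleType_prime hg (by norm_num : Nat.Prime 11) ho
  have hm1 : m = 1 := by omega
  subst hm1
  refine ⟨by rw [hm]; rfl, Finset.eq_univ_of_card _ (by rw [hs, h.card]), ?_⟩
  rw [Equiv.Perm.mem_alternatingGroup, Equiv.Perm.sign_of_cycleType, hm]
  rfl

theorem centralizer_eleven (hα : Fintype.card α = 11) {x : Perm α} (hx : x.cycleType = {11}) :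
    Nat.card (Subgroup.centralizer ({x} : Set (Perm α))) = 11 := by
  rw [Equiv.Perm.nat_card_centralizer, hx, hα]
  decide

theorem centralizer_five (hα : Fintype.card α = 11) {x : Perm α} (hx : x.cycleType = Multiset.replicate 2 5) :
    Nat.card (Subgroup.centralizer ({x} : Set (Perm α))) = 50 := by
  rw [Equiv.Perm.nat_card_centralizer, hx, hα]
  decide

theorem mem_zpowers_of_commute (hα : Fintype.card α = 11) {x y : Perm α} (hx : x.cycleType = {11})
    (h : Commute y x) : y ∈ Subgroup.zpowers x := by
  have ho : orderOf x = 11 := by rw [← Equiv.Perm.lcm_cycleType, hx]; rfl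
  have hle : Subgroup.zpowers x ≤ Subgroup.centralizer ({x} : Set (Perm α)) :=
    Subgroup.zpowers_le.mpr (Subgroup.mem_centralizer_singleton_iff.mpr rfl)
  rw [Subgroup.eq_of_le_of_card_ge hle (by rw [centralizer_eleven hα hx, Nat.card_zpowers, ho])]
  exact Subgroup.mem_centralizer_singleton_iff.mpr h

/-- An element of order ten is odd; its fifth power has exactly one fixed point, fixed by the element. -/
theorem Good.order_ten (h : Good G) {g : Perm α} (hg : g ∈ G) (ho : orderOf g = 10) :
    Perm.sign g = -1 ∧ ∃ ω, g ω = ω ∧ ∀ x, (g ^ 5) x = x ↔ x = ω := by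
  have hx : orderOf (g ^ 2) = 5 := by rw [orderOf_pow' g two_ne_zero, ho]; rfl
  have hs : orderOf (g ^ 5) = 2 := by rw [orderOf_pow' g (by norm_num), ho]; rfl
  obtain ⟨-, ω, hω⟩ := h.order_five (G.pow_mem hg 2) hx
  have hgω : g ω = ω := (hω (g ω)).mp (by
    rw [← Perm.mul_apply, ← pow_succ, pow_succ', Perm.mul_apply, (hω ω).mpr rfl])
  obtain ⟨m, hm2, hm5, hsupp, hsign⟩ := h.order_two (G.pow_mem hg 5) hs
  set S := Finset.univ.filter fun x => (g ^ 5) x = x with hS
  have hSc : S.card + 2 * m = 11 := by rw [← hsupp, hS, fixed_card_add, h.card]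
  have hωS : ω ∈ S := by
    simp only [S, Finset.mem_filter, Finset.mem_univ, true_and]
    exact Equiv.Perm.pow_apply_eq_self_of_apply_eq_self hgω 5
  have hinv : ∀ x, (g ^ 5) ((g ^ 2) x) = (g ^ 2) x ↔ (g ^ 5) x = x := fun x => by
    rw [← Perm.mul_apply, ← pow_add, show 5 + 2 = 2 + 5 from rfl, pow_add, Perm.mul_apply]
    exact (g ^ 2).injective.eq_iff
  let f : Perm {x // x ∈ S} := (g ^ 2).subtypePerm fun x => by simpa [S] using hinv x
  have hf : f ^ (5 ^ 1) = 1 := by
    rw [pow_one, Equiv.Perm.subtypePerm_pow]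
    ext x
    simp [← pow_mul, show g ^ 10 = 1 from ho ▸ pow_orderOf_eq_one g]
  haveI : Fact (Nat.Prime 5) := ⟨by norm_num⟩
  have hmod : Fintype.card {x // x ∈ S} % 5 = 1 % 5 := by
    have h5 : (Function.fixedPoints (f : {x // x ∈ S} → {x // x ∈ S})) = {⟨ω, hωS⟩} := by
      ext x
      simp only [Function.mem_fixedPoints_iff, Set.mem_singleton_iff]
      rw [Subtype.ext_iff, Subtype.ext_iff, show ((f x : {x // x ∈ S}) : α) = (g ^ 2) x from rfl]
      exact hω x
    have hfp : Finset.card (Finset.univ.filter fun x => f x = x) = 1 :=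
      Finset.card_eq_one.mpr ⟨⟨ω, hωS⟩, Finset.ext fun x => by simpa [Function.IsFixedPt] using Set.ext_iff.mp h5 x⟩
    have h0 := fixed_card_add f
    have hd : 5 ∣ f.support.card := by
      rw [← Equiv.Perm.sum_cycleType]
      refine Multiset.dvd_sum fun d hd => ?_
      have hdd := Equiv.Perm.dvd_of_mem_cycleType hd
      have h5' : orderOf f ∣ 5 := orderOf_dvd_of_pow_eq_one (by simpa using hf)
      rcases (Nat.dvd_prime (by norm_num : Nat.Prime 5)).mp (hdd.trans h5') with e | e
      · exact absurd e (by have := Equiv.Perm.two_le_of_mem_cycleType hd; omega)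
      · exact dvd_of_eq e.symm
    omega
  rw [Fintype.card_coe] at hmod
  have hS1 : S.card = 1 := by omega
  have hm : m = 5 := by omega
  refine ⟨?_, ω, hgω, fun x => ?_⟩
  · have e : Perm.sign (g ^ 5) = -1 := by rw [hsign, hm]; rfl
    rw [map_pow] at e
    rcases Int.units_eq_one_or (Perm.sign g) with e' | e'
    · rw [e', one_pow] at e; exact absurd e (by decide)
    · exact e'
  · obtain ⟨v, hv⟩ := Finset.card_eq_one.mp hS1
    have hvω : v = ω := by rw [hv, Finset.mem_singleton] at hωS; exact hωS.symm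
    have := Finset.ext_iff.mp hv x
    simpa [S, hvω] using this

theorem exists_cycle_mem_of_sylow {p : ℕ} (hp : p.Prime) (hpn : p ≤ Fintype.card α) (G : Subgroup (Perm α))
    (hdvd : p ^ ((Fintype.card α).factorial.factorization p) ∣ Nat.card G) :
    ∃ g ∈ G, g.IsCycle ∧ g.support.card = p := by
  haveI := Fact.mk hp
  obtain ⟨P, hP⟩ := Sylow.exists_subgroup_card_pow_prime p hdvd
  let S : Sylow p (Perm α) := Sylow.ofCard (P.map G.subtype) (by
    rw [Subgroup.card_map_of_injective G.subtype_injective, hP, Nat.card_perm, Nat.card_eq_fintype_card])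
  obtain ⟨s, -, hs⟩ := Finset.exists_subset_card_eq (show p ≤ (Finset.univ : Finset α).card by simpa using hpn)
  obtain ⟨c, hc, hcs⟩ : ∃ c : Perm α, c.IsCycle ∧ c.support.card = p := by
    have hnd : s.toList.Nodup := s.nodup_toList
    refine ⟨s.toList.formPerm, ?_, ?_⟩
    · exact List.isCycle_formPerm hnd (by rw [Finset.length_toList, hs]; exact hp.two_le)
    · rw [List.support_formPerm_of_nodup _ hnd, Finset.toList_toFinset, hs]
      intro x e
      have := congrArg List.length e
      rw [Finset.length_toList, hs, List.length_singleton] at this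
      exact hp.ne_one this
  have hord : orderOf c = p := by rw [hc.orderOf, hcs]
  have hcp : IsPGroup p (Subgroup.zpowers c) := IsPGroup.of_card (n := 1) (by rw [Nat.card_zpowers, hord, pow_one])
  obtain ⟨Q, hQ⟩ := hcp.exists_le_sylow
  obtain ⟨u, hu⟩ := MulAction.exists_smul_eq (Perm α) Q S
  refine ⟨u * c * u⁻¹, ?_, hc.conj, by rw [Equiv.Perm.support_conj, Finset.card_map, hcs]⟩
  have hm : u * c * u⁻¹ ∈ ((u • Q : Sylow p (Perm α)) : Subgroup (Perm α)) :=
    Subgroup.smul_mem_pointwise_smul c (MulAut.conj u) _ (hQ (Subgroup.mem_zpowers c))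
  rw [hu] at hm
  obtain ⟨g, -, hg⟩ := hm
  exact hg ▸ g.2

theorem Good.card_dvd (h : Good G) (hA : G ≤ alternatingGroup α) :
    Nat.card G ∣ 2 ^ 7 * 3 ^ 3 * 5 * 11 := by
  haveI : Nontrivial α := Fintype.one_lt_card_iff_nontrivial.mp (by rw [h.card]; norm_num)
  have hG : Nat.card G ∣ 19958400 := by
    refine (Subgroup.card_dvd_of_le hA).trans (dvd_of_eq ?_)
    rw [nat_card_alternatingGroup, Nat.card_eq_fintype_card, h.card]
    decide
  have no : ∀ p, p.Prime → p ≤ 8 → ∀ e, 11 = 11 → (Nat.factorial 11).factorization p = e →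
      ¬ p ^ e ∣ Nat.card G := by
    intro p hp h8 e _ he hd
    obtain ⟨g, hg, hc, hs⟩ := exists_cycle_mem_of_sylow hp (by rw [h.card]; omega) G (by rw [h.card, he]; exact hd)
    exact h.no_cycle g hg hc (hs ▸ hp) (hs ▸ h8)
  have f3 : (Nat.factorial 11).factorization 3 = 4 := by
    rw [Nat.factorization_def _ Nat.prime_three]
    haveI := Fact.mk Nat.prime_three
    rw [padicValNat_factorial (b := 3) (by decide)]; decide
  have f5 : (Nat.factorial 11).factorization 5 = 2 := by
    rw [Nat.factorization_def _ (by norm_num)]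
    haveI : Fact (Nat.Prime 5) := ⟨by norm_num⟩
    rw [padicValNat_factorial (b := 2) (by decide)]; decide
  have f7 : (Nat.factorial 11).factorization 7 = 1 := by
    rw [Nat.factorization_def _ (by norm_num)]
    haveI : Fact (Nat.Prime 7) := ⟨by norm_num⟩
    rw [padicValNat_factorial (b := 2) (by decide)]; decide
  have n3 := no 3 Nat.prime_three (by norm_num) 4 rfl f3
  have n5 := no 5 (by norm_num) (by norm_num) 2 rfl f5
  have n7 := no 7 (by norm_num) (by norm_num) 1 rfl f7
  have hpos : 0 < Nat.card G := Nat.card_pos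
  have hall : ∀ q, q ∈ Nat.primeFactors 19958400 → (Nat.card G).factorization q ≤
      (2 ^ 7 * 3 ^ 3 * 5 * 11 : ℕ).factorization q := by
    intro q hq
    have hle : (Nat.card G).factorization q ≤ (19958400 : ℕ).factorization q :=
      (Nat.factorization_le_iff_dvd hpos.ne' (by norm_num)).mpr hG q
    have hqp := Nat.prime_of_mem_primeFactors hq
    have hfac : (19958400 : ℕ) = 2 ^ 7 * 3 ^ 4 * 5 ^ 2 * 7 * 11 := by norm_num
    rw [hfac] at hle
    rw [Nat.factorization_mul (by norm_num) (by norm_num), Nat.factorization_mul (by norm_num) (by norm_num),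
      Nat.factorization_mul (by norm_num) (by norm_num), Nat.factorization_mul (by norm_num) (by norm_num),
      Finsupp.add_apply, Finsupp.add_apply, Finsupp.add_apply, Finsupp.add_apply] at hle
    rw [Nat.factorization_mul (by norm_num) (by norm_num), Nat.factorization_mul (by norm_num) (by norm_num),
      Nat.factorization_mul (by norm_num) (by norm_num), Finsupp.add_apply, Finsupp.add_apply, Finsupp.add_apply]
    have hb : ∀ r k, r.Prime → (r ^ k).factorization q = if r = q then k else 0 := fun r k hr => by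
      rw [hr.factorization_pow, Finsupp.single_apply]
    have hb1 : ∀ r, r.Prime → r.factorization q = if r = q then 1 else 0 := fun r hr => by
      rw [hr.factorization, Finsupp.single_apply]
    rw [hb 2 7 Nat.prime_two, hb 3 4 Nat.prime_three, hb 5 2 (by norm_num), hb1 7 (by norm_num),
      hb1 11 (by norm_num)] at hle
    rw [hb 2 7 Nat.prime_two, hb 3 3 Nat.prime_three, hb1 5 (by norm_num), hb1 11 (by norm_num)]
    by_cases e3 : q = 3
    · subst e3
      have : ¬ 4 ≤ (Nat.card G).factorization 3 := fun h4 => n3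
        ((pow_dvd_pow 3 h4).trans (Nat.ordProj_dvd _ _))
      simp; omega
    by_cases e5 : q = 5
    · subst e5
      have : ¬ 2 ≤ (Nat.card G).factorization 5 := fun h4 => n5
        ((pow_dvd_pow 5 h4).trans (Nat.ordProj_dvd _ _))
      simp; omega
    by_cases e7 : q = 7
    · subst e7
      have : ¬ 1 ≤ (Nat.card G).factorization 7 := fun h4 => n7
        ((pow_dvd_pow 7 h4).trans (Nat.ordProj_dvd _ _))
      simp; omega
    have g3 : ¬ (3 = q) := fun e => e3 e.symm
    have g5 : ¬ (5 = q) := fun e => e5 e.symm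
    have g7 : ¬ (7 = q) := fun e => e7 e.symm
    simp only [if_neg g3, if_neg g5, if_neg g7] at hle ⊢
    omega
  refine (Nat.factorization_le_iff_dvd hpos.ne' (by norm_num)).mp fun q => ?_
  by_cases hq : q ∈ Nat.primeFactors 19958400
  · exact hall q hq
  · have : (Nat.card G).factorization q = 0 := by
      refine Finsupp.notMem_support_iff.mp fun hq' => hq ?_
      rw [Nat.support_factorization] at hq'
      exact Nat.primeFactors_mono hG (by norm_num) hq'
    rw [this]
    exact Nat.zero_le _

end Cfsg.Agent.Degree11
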