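import Cfsg.Agent.Lib.Degree11.Structure
import Cfsg.Agent.S3385

/-! In the group of order 7920 and degree eleven a non-trivial element fixes at most three points. -/

set_option autoImplicit false

namespace Cfsg.Agent.Degree11

open Equiv Equiv.Perm
open scoped Pointwise

variable {α : Type*} [Fintype α] [DecidableEq α] {T : Subgroup (Perm α)}

theorem five_dvd_card {x : Perm α} (hx : x ^ 5 = 1) (s : Finset α) (hinv : ∀ v, v ∈ s → x v ∈ s)
    (hne : ∀ v ∈ s, x v ≠ v) : 5 ∣ s.card := by
  classical
  have hiff : ∀ v, x v ∈ s ↔ v ∈ s := fun v => ⟨fun h => by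
    have e : v = (x ^ 4) (x v) := by rw [← Perm.mul_apply, ← pow_succ, hx]; rfl
    rw [e]
    simp only [pow_succ, pow_zero, one_mul, Perm.mul_apply]
    exact hinv _ (hinv _ (hinv _ (hinv _ h))), hinv v⟩
  let f : Perm {v // v ∈ s} := x.subtypePerm hiff
  have hf : f ^ 5 = 1 := by
    rw [Equiv.Perm.subtypePerm_pow]
    ext v
    simp [hx]
  have hs : f.support = Finset.univ := Finset.eq_univ_of_forall fun v => by
    rw [Equiv.Perm.mem_support]
    exact fun e => hne v v.2 (congrArg Subtype.val e)
  have h : 5 ∣ f.support.card := by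
    rw [← Equiv.Perm.sum_cycleType]
    refine Multiset.dvd_sum fun d hd => ?_
    rcases (Nat.dvd_prime (by norm_num : Nat.Prime 5)).mp
        ((Equiv.Perm.dvd_of_mem_cycleType hd).trans (orderOf_dvd_of_pow_eq_one hf)) with e | e
    · exact absurd e (by have := Equiv.Perm.two_le_of_mem_cycleType hd; omega)
    · exact dvd_of_eq e.symm
  rwa [hs, Finset.card_univ, Fintype.card_coe] at h

theorem support_le_compl {g : Perm α} (s : Finset α) (h : ∀ v ∈ s, g v = v) : g.support ⊆ sᶜ := fun v hv =>
  Finset.mem_compl.mpr fun hs => Equiv.Perm.mem_support.mp hv (h v hs)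

theorem Good.no_nine (h : Good T) (P : Subgroup (Perm α)) (hle : P ≤ T) (hP : Nat.card P = 9)
    {a b c : α} (hab : a ≠ b) (hac : a ≠ c) (hbc : b ≠ c)
    (hfix : ∀ g ∈ P, g a = a ∧ g b = b ∧ g c = c) : False := by
  classical
  haveI := Fact.mk Nat.prime_three
  set S := Finset.univ.filter fun v => ∀ g ∈ P, g v = v with hS
  have h3 : 3 ≤ S.card := by
    rw [show 3 = ({a, b, c} : Finset α).card by
      rw [Finset.card_insert_of_notMem (by simp [hab, hac]), Finset.card_pair hbc]]
    refine Finset.card_le_card fun v hv => ?_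
    simp only [Finset.mem_insert, Finset.mem_singleton] at hv
    simp only [S, Finset.mem_filter, Finset.mem_univ, true_and]
    rcases hv with rfl | rfl | rfl
    exacts [fun g hg => (hfix g hg).1, fun g hg => (hfix g hg).2.1, fun g hg => (hfix g hg).2.2]
  have hmod := (IsPGroup.of_card (n := 2) (by rw [hP]; norm_num) : IsPGroup 3 P).card_modEq_card_fixedPoints α
  have hfp : Nat.card (MulAction.fixedPoints P α) = S.card := by
    rw [Nat.card_eq_fintype_card, Fintype.card_subtype]
    congr 1
    ext v
    simp only [S, Finset.mem_filter, Finset.mem_univ, true_and, MulAction.mem_fixedPoints]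
    exact ⟨fun h g hg => h ⟨g, hg⟩, fun h g => h g g.2⟩
  rw [hfp, Nat.card_eq_fintype_card, h.card] at hmod
  unfold Nat.ModEq at hmod
  have hcard := Finset.card_compl S
  rw [h.card] at hcard
  have hS5 : Sᶜ.card ≤ 6 := by omega
  have hstab : ∀ g ∈ P, ∀ v, g v ∈ Sᶜ ↔ v ∈ Sᶜ := by
    intro g hg v
    simp only [Finset.mem_compl, S, Finset.mem_filter, Finset.mem_univ, true_and]
    constructor
    · intro hv hfx
      exact hv (by rw [hfx g hg]; exact hfx)
    · intro hv hfx
      apply hv
      have := hfx g⁻¹ (P.inv_mem hg)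
      rw [Perm.inv_eq_iff_eq] at this
      have e : g v = v := g.injective this.symm
      rw [e] at hfx
      exact hfx
  let ψ : P →* Perm {v // v ∈ Sᶜ} := MonoidHom.mk' (fun g => (g : Perm α).subtypePerm (hstab g g.2)) fun a b => rfl
  have hψ : Function.Injective ψ := fun g g' e => Subtype.ext (Equiv.ext fun v => by
    by_cases hv : v ∈ Sᶜ
    · exact congrArg (fun σ : Perm {v // v ∈ Sᶜ} => ((σ ⟨v, hv⟩ : {v // v ∈ Sᶜ}) : α)) e
    · simp only [Finset.mem_compl, not_not, S, Finset.mem_filter, Finset.mem_univ, true_and] at hv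
      rw [hv g g.2, hv g' g'.2])
  have hc : Nat.card ψ.range = 9 := by rw [card_range ψ hψ, hP]
  have hdvd := Subgroup.card_subgroup_dvd_card ψ.range
  rw [hc, Nat.card_perm, Nat.card_eq_fintype_card, Fintype.card_coe] at hdvd
  have h6 : Sᶜ.card = 6 := by
    by_contra hne
    interval_cases Sᶜ.card <;> first | omega | (revert hdvd; decide)
  obtain ⟨g, ⟨g', rfl⟩, -, hgs⟩ := exists_cycle_mem_of_sylow Nat.prime_three
    (by rw [Fintype.card_coe, h6]; norm_num) ψ.range (by
      rw [hc, Fintype.card_coe, h6, Nat.factorization_def _ Nat.prime_three,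
        padicValNat_factorial (b := 2) (by decide)]
      decide)
  have hsupp : (g' : Perm α).support.card = 3 := by
    rw [← hgs, ← Finset.card_map (Function.Embedding.subtype _) (s := (ψ g').support)]
    congr 1
    ext v
    simp only [Finset.mem_map, Equiv.Perm.mem_support, Function.Embedding.subtype_apply]
    constructor
    · intro hv
      have hvS : v ∈ Sᶜ := Finset.mem_compl.mpr fun hs => hv ((Finset.mem_filter.mp hs).2 g' g'.2)
      exact ⟨⟨v, hvS⟩, fun e => hv (congrArg Subtype.val e), rfl⟩
    · rintro ⟨w, hw, rfl⟩ e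
      exact hw (Subtype.ext e)
  have hne : (g' : Perm α) ≠ 1 := fun e => by rw [e] at hsupp; simp at hsupp
  have ho3 : orderOf (g' : Perm α) ∣ 9 := by
    rw [← hP, Subgroup.orderOf_coe]; exact orderOf_dvd_natCard g'
  have hcyc : (g' : Perm α).IsCycle := by
    rw [← Equiv.Perm.card_cycleType_eq_one]
    have hsum := Equiv.Perm.sum_cycleType (g' : Perm α)
    rw [hsupp] at hsum
    have hall := fun d (hd : d ∈ (g' : Perm α).cycleType) => Equiv.Perm.two_le_of_mem_cycleType hd
    have hle := Multiset.card_nsmul_le_sum hall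
    rw [hsum, smul_eq_mul] at hle
    have : (g' : Perm α).cycleType.card ≠ 0 := fun e => hne (Equiv.Perm.card_cycleType_eq_zero.mp e)
    omega
  exact h.no_cycle _ (hle g'.2) hcyc (hsupp ▸ Nat.prime_three) (by omega)

theorem card_stab_center {y : Perm α} (hα : Fintype.card α = 11) (hy : y.cycleType = Multiset.replicate 3 3)
    {a b : α} (hab : a ≠ b) (ha : y a = a) (hb : y b = b) :
    Nat.card (MulAction.stabilizer (Subgroup.centralizer ({y} : Set (Perm α))) a) ∣ 162 := by
  classical
  set D := Subgroup.centralizer ({y} : Set (Perm α)) with hD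
  have hDc : Nat.card D = 324 := by rw [hD, Equiv.Perm.nat_card_centralizer, hy, hα]; decide
  have hfix : (Finset.univ.filter fun v => y v = v) = {a, b} := by
    refine (Finset.eq_of_subset_of_card_le ?_ ?_).symm
    · intro v hv
      simp only [Finset.mem_insert, Finset.mem_singleton] at hv
      simp only [Finset.mem_filter, Finset.mem_univ, true_and]
      rcases hv with rfl | rfl <;> assumption
    · have h0 := fixed_card_add y
      rw [← Equiv.Perm.sum_cycleType, hy, hα, Multiset.sum_replicate, smul_eq_mul] at h0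
      rw [Finset.card_pair hab]
      omega
  have horb : MulAction.orbit D a = {a, b} := by
    ext v
    constructor
    · rintro ⟨d, rfl⟩
      have hd : y ((d : Perm α) a) = (d : Perm α) a := by
        rw [← Perm.mul_apply, ← Subgroup.mem_centralizer_singleton_iff.mp d.2, Perm.mul_apply, ha]
      have : (d : Perm α) a ∈ ({a, b} : Finset α) := hfix ▸ (by simp [hd])
      simpa [Subgroup.smul_def] using this
    · rintro (rfl | rfl)
      · exact MulAction.mem_orbit_self _
      · refine ⟨⟨Equiv.swap a v, Subgroup.mem_centralizer_singleton_iff.mpr ?_⟩, Equiv.swap_apply_left a v⟩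
        refine (Equiv.Perm.Disjoint.commute fun w => ?_).eq
        by_cases hw : y w = w
        · exact Or.inr hw
        · exact Or.inl (Equiv.swap_apply_of_ne_of_ne (fun e => hw (e ▸ ha)) fun e => hw (e ▸ hb))
  have h := MulAction.card_orbit_mul_card_stabilizer_eq_card_group D a
  simp only [← Nat.card_eq_fintype_card] at h
  rw [horb, hDc, Nat.card_coe_set_eq, Set.ncard_pair hab] at h
  exact ⟨1, by omega⟩

/-- The complement of a point. -/
abbrev Others (a : α) := {v : α // v ≠ a}

/-- The point stabiliser acting on the other points. -/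
instance otherAction (a : α) : MulAction (MulAction.stabilizer T a) (Others a) where
  smul g v := ⟨((g : T) : Perm α) v.1, fun e => v.2 (((g : T) : Perm α).injective
    (e.trans (show ((g : T) : Perm α) a = a from g.2).symm))⟩
  one_smul _ := rfl
  mul_smul _ _ _ := rfl

theorem coe_other_smul {a : α} (g : MulAction.stabilizer T a) (v : Others a) :
    ((g • v : Others a) : α) = ((g : T) : Perm α) v.1 := rfl

instance otherFaithful (a : α) : FaithfulSMul (MulAction.stabilizer T a) (Others a) :=
  ⟨fun {g g'} h => Subtype.ext (Subtype.ext (Equiv.ext fun v => by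
    by_cases hv : v = a
    · subst hv
      exact (show ((g : T) : Perm α) v = v from g.2).trans (show ((g' : T) : Perm α) v = v from g'.2).symm
    · exact congrArg Subtype.val (h ⟨v, hv⟩)))⟩

/-- The facts about two point stabilisers. -/
theorem two_stab (h : Good T) [MulAction.IsPretransitive T α]
    (hT : Nat.card T = 7920) (a : α) :
    MulAction.IsPretransitive (MulAction.stabilizer T a) (Others a) ∧ ∀ b : Others a,
      Nat.card (MulAction.stabilizer (MulAction.stabilizer T a) b) = 72 ∧
      ∀ c : Others a, c ≠ b → Nat.card (MulAction.orbit (MulAction.stabilizer (MulAction.stabilizer T a) b) c) = 9 := by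
  classical
  set Ha := MulAction.stabilizer T a
  have hHa : Nat.card Ha = 720 := by
    have e := Subgroup.card_mul_index Ha
    rw [MulAction.index_stabilizer_of_transitive, show Nat.card α = 11 by rw [Nat.card_eq_fintype_card, h.card], hT] at e
    omega
  haveI : Fact (Nat.Prime 5) := ⟨by norm_num⟩
  haveI := Fact.mk Nat.prime_three
  obtain ⟨x, hx⟩ := exists_prime_orderOf_dvd_card' (G := Ha) 5 (by rw [hHa]; norm_num)
  rw [← Subgroup.orderOf_coe, ← Subgroup.orderOf_coe] at hx
  obtain ⟨-, ω, hω⟩ := h.order_five (x : T).2 hx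
  have hωa : ω = a := ((hω a).mp x.2).symm
  have hβ : Fintype.card (Others a) = 10 := by
    rw [Fintype.card_subtype_compl, h.card, Fintype.card_subtype_eq]
  have horb : ∀ b : Others a, MulAction.orbit Ha b = Set.univ := by
    intro b
    let O : Finset α := ((MulAction.orbit Ha b).toFinset).map (Function.Embedding.subtype _)
    have haO : a ∉ O := by simp [O]
    have hinvO : ∀ g : Ha, ∀ v, v ∈ O → ((g : T) : Perm α) v ∈ O := by
      intro g v hv
      obtain ⟨w, hw, rfl⟩ := Finset.mem_map.mp hv
      refine Finset.mem_map.mpr ⟨g • w, ?_, rfl⟩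
      rw [Set.mem_toFinset] at hw ⊢
      obtain ⟨u, rfl⟩ := hw
      exact ⟨g * u, mul_smul g u b⟩
    have h5 : 5 ∣ O.card := five_dvd_card (x := ((x : T) : Perm α))
      (hx ▸ pow_orderOf_eq_one _) O (hinvO x) fun v hv e => haO (hωa ▸ (hω v).mp e ▸ hv)
    have hO : O.card = Nat.card (MulAction.orbit Ha b) := by
      rw [Finset.card_map, Set.toFinset_card, Nat.card_eq_fintype_card]
    have hpos : 0 < O.card := by
      rw [hO]; haveI : Nonempty (MulAction.orbit Ha b) := ⟨⟨b, MulAction.mem_orbit_self b⟩⟩; exact Nat.card_pos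
    have hle : O.card ≤ 10 := by
      rw [Finset.card_map, ← hβ]; exact Finset.card_le_univ _
    have h10 : O.card = 10 := by
      by_contra hne
      have hO5 : O.card = 5 := by omega
      have hiff : ∀ g : Ha, ∀ v, ((g : T) : Perm α) v ∈ O ↔ v ∈ O := fun g v => ⟨fun hv => by
        have := hinvO g⁻¹ _ hv
        simpa using this, hinvO g v⟩
      let ρ : Ha →* Perm {v // v ∈ O} := MonoidHom.mk'
        (fun g => ((g : T) : Perm α).subtypePerm (hiff g)) fun _ _ => rfl
      have e := ρ.ker.card_mul_index
      rw [Subgroup.index_ker, hHa] at e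
      have hd := Subgroup.card_subgroup_dvd_card ρ.range
      rw [Nat.card_perm, show Nat.card {v // v ∈ O} = 5 by rw [Nat.card_eq_fintype_card, Fintype.card_coe, hO5]] at hd
      have h3 : 3 ∣ Nat.card ρ.ker := by
        rcases (Nat.Prime.dvd_mul Nat.prime_three).mp (show 3 ∣ Nat.card ρ.ker * Nat.card ρ.range by rw [e]; norm_num) with h' | h'
        · exact h'
        · obtain ⟨r, hr⟩ := hd
          by_contra hk
          have h9 : 9 ∣ Nat.card ρ.range :=
            (Nat.Coprime.dvd_of_dvd_mul_left ((Nat.prime_three.coprime_iff_not_dvd.mpr hk).pow_left 2)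
              (show 9 ∣ Nat.card ρ.ker * Nat.card ρ.range by rw [e]; norm_num) : _)
          have := h9.trans (Subgroup.card_subgroup_dvd_card ρ.range)
          rw [Nat.card_perm, show Nat.card {v // v ∈ O} = 5 by rw [Nat.card_eq_fintype_card, Fintype.card_coe, hO5]] at this
          revert this; decide
      obtain ⟨y, hy⟩ := exists_prime_orderOf_dvd_card' (G := ρ.ker) 3 h3
      rw [← Subgroup.orderOf_coe, ← Subgroup.orderOf_coe, ← Subgroup.orderOf_coe] at hy
      have hle6 : (((y : Ha) : T) : Perm α).support.card ≤ 5 := by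
        refine (Finset.card_le_card (support_le_compl (insert a O) ?_)).trans ?_
        · intro v hv
          rcases Finset.mem_insert.mp hv with rfl | hv
          · exact (y : Ha).2
          · exact congrArg (fun σ : Perm {v // v ∈ O} => ((σ ⟨v, hv⟩ : {v // v ∈ O}) : α)) (MonoidHom.mem_ker.mp y.2)
        · rw [Finset.card_compl, h.card, Finset.card_insert_of_notMem haO, hO5]
      have := h.order_three ((y : Ha) : T).2 hy
      omega
    apply Set.eq_univ_of_forall
    intro v
    have hu : (MulAction.orbit Ha b).toFinset = Finset.univ := Finset.eq_univ_of_card _ (by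
      rw [hβ, ← h10, Finset.card_map])
    rw [← Set.mem_toFinset, hu]
    exact Finset.mem_univ v
  haveI htr : MulAction.IsPretransitive Ha (Others a) :=
    ⟨fun u v => by
      obtain ⟨g, hg⟩ := (horb u).ge (Set.mem_univ v)
      exact ⟨g, hg⟩⟩
  have h72 : ∀ b : Others a, Nat.card (MulAction.stabilizer Ha b) = 72 := fun b => by
    have e := Subgroup.card_mul_index (MulAction.stabilizer Ha b)
    rw [MulAction.index_stabilizer_of_transitive, show Nat.card (Others a) = 10 by rw [Nat.card_eq_fintype_card, hβ], hHa] at e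
    omega
  refine ⟨htr, fun b => ⟨h72 b, fun c hc => ?_⟩⟩
  have hdiv : ∀ b c : Others a, c ≠ b → 3 ∣ Nat.card (MulAction.orbit (MulAction.stabilizer Ha b) c) := by
    intro b c hc
    by_contra hnd
    set H2 := MulAction.stabilizer Ha b
    have e := Subgroup.card_mul_index (MulAction.stabilizer H2 c)
    rw [MulAction.index_stabilizer, h72 b, ← Nat.card_coe_set_eq] at e
    have h9 : 3 ^ 2 ∣ Nat.card (MulAction.stabilizer H2 c) :=
      Nat.Coprime.dvd_of_dvd_mul_right ((Nat.prime_three.coprime_iff_not_dvd.mpr hnd).pow_left 2) (by rw [e]; norm_num)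
    obtain ⟨P, hP⟩ := Sylow.exists_subgroup_card_pow_prime 3 h9
    let ι : MulAction.stabilizer H2 c →* Perm α :=
      ((T.subtype.comp Ha.subtype).comp H2.subtype).comp (MulAction.stabilizer H2 c).subtype
    have hι : Function.Injective ι :=
      ((T.subtype_injective.comp Ha.subtype_injective).comp H2.subtype_injective).comp Subtype.val_injective
    refine h.no_nine (P.map ι) ?_ (by rw [Subgroup.card_map_of_injective hι, hP]; norm_num)
      (a := a) (b := b.1) (c := c.1) b.2.symm c.2.symm (fun e => hc (Subtype.ext e.symm)) ?_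
    · rintro _ ⟨g, -, rfl⟩
      exact ((g.1 : H2).1 : T).2
    · rintro _ ⟨g, -, rfl⟩
      exact ⟨(g.1.1).2, congrArg Subtype.val g.1.2, congrArg Subtype.val g.2⟩
  haveI hprim : MulAction.IsPreprimitive Ha (Others a) := by
    refine MulAction.IsPreprimitive.of_isTrivialBlock_base b fun {B} hbB hB => ?_
    by_cases hs : B.Subsingleton
    · exact Or.inl hs
    right
    obtain ⟨c, hcB, hcb⟩ : ∃ c ∈ B, c ≠ b := by
      by_contra hcon
      push Not at hcon
      exact hs fun u hu v hv => (hcon u hu).trans (hcon v hv).symm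
    have hBinv : ∀ g ∈ MulAction.stabilizer Ha b, ∀ v ∈ B, g • v ∈ B := by
      intro g hg v hv
      have hBg : g • B = B := by
        refine (hB.smul_eq_of_nonempty ⟨b, ?_, hbB⟩ : _)
        exact ⟨b, hbB, MulAction.mem_stabilizer_iff.mp hg⟩
      rw [← hBg]
      exact Set.smul_mem_smul_set hv
    have hsum : ∀ s : Finset (Others a), (∀ g ∈ MulAction.stabilizer Ha b, ∀ v ∈ s, g • v ∈ s) → b ∉ s →
        3 ∣ s.card := by
      intro s
      induction s using Finset.strongInduction with
      | _ s ih =>
        intro hinv hb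
        rcases s.eq_empty_or_nonempty with rfl | ⟨v, hv⟩
        · simp
        set O := (MulAction.orbit (MulAction.stabilizer Ha b) v).toFinset
        have hOs : O ⊆ s := fun w hw => by
          obtain ⟨g, rfl⟩ := Set.mem_toFinset.mp hw
          exact hinv g g.2 v hv
        have h3 := hdiv b v fun e => hb (e ▸ hv)
        rw [Nat.card_eq_fintype_card, ← Set.toFinset_card] at h3
        rw [← Finset.card_sdiff_add_card_eq_card hOs]
        refine Nat.dvd_add (ih _ (Finset.sdiff_ssubset hOs ⟨v, Set.mem_toFinset.mpr (MulAction.mem_orbit_self v)⟩)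
          (fun g hg w hw => ?_) fun hb' => hb (Finset.mem_sdiff.mp hb').1) h3
        obtain ⟨hw1, hw2⟩ := Finset.mem_sdiff.mp hw
        refine Finset.mem_sdiff.mpr ⟨hinv g hg w hw1, fun hcon => hw2 ?_⟩
        obtain ⟨u, hu⟩ := Set.mem_toFinset.mp hcon
        refine Set.mem_toFinset.mpr ⟨⟨g, hg⟩⁻¹ * u, ?_⟩
        show (⟨g, hg⟩⁻¹ * u : MulAction.stabilizer Ha b) • v = w
        rw [mul_smul, inv_smul_eq_iff]
        exact hu
    have hdvd : B.ncard ∣ 10 := by
      have := MulAction.IsBlock.ncard_dvd_card hB ⟨b, hbB⟩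
      rwa [Nat.card_eq_fintype_card, hβ] at this
    have h3 := hsum (B.toFinset.erase b) (fun g hg v hv => Finset.mem_erase.mpr ⟨fun e => (Finset.mem_erase.mp hv).1
        (smul_left_cancel g (e.trans (MulAction.mem_stabilizer_iff.mp hg).symm)),
        Set.mem_toFinset.mpr (hBinv g hg v (Set.mem_toFinset.mp (Finset.mem_erase.mp hv).2))⟩)
      (Finset.notMem_erase b _)
    rw [Finset.card_erase_of_mem (Set.mem_toFinset.mpr hbB), ← Set.ncard_eq_toFinset_card'] at h3
    have h2 : 2 ≤ B.ncard := (Set.one_lt_ncard).mpr ⟨c, hcB, b, hbB, hcb⟩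
    have hle := Nat.le_of_dvd (by norm_num) hdvd
    have h10 : B.ncard = 10 := by interval_cases B.ncard <;> omega
    exact Set.eq_of_subset_of_ncard_le (Set.subset_univ B) (by rw [Set.ncard_univ, Nat.card_eq_fintype_card, hβ, h10])
  have hno3 : ∀ v : Others a, Nat.card (MulAction.orbit (MulAction.stabilizer Ha b) v) ≠ 3 := by
    intro v e
    obtain ⟨k, -, hk⟩ := Cfsg.Agent.S3385.result hprim b v e
    rw [h72] at hk
    have h9 : 9 ∣ 2 ^ k * 3 := hk ▸ (by norm_num)
    rw [show (9 : ℕ) = 3 * 3 from rfl] at h9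
    have := (Nat.prime_three.dvd_of_dvd_pow (Nat.dvd_of_mul_dvd_mul_right (by norm_num) h9))
    norm_num at this
  set O := (MulAction.orbit (MulAction.stabilizer Ha b) c).toFinset
  have hOc : O.card = Nat.card (MulAction.orbit (MulAction.stabilizer Ha b) c) := by
    rw [Set.toFinset_card, Nat.card_eq_fintype_card]
  have hbO : b ∉ O := fun hb => by
    obtain ⟨g, hg⟩ := Set.mem_toFinset.mp hb
    have hgc : (g : Ha) • c = b := hg
    exact hc (smul_left_cancel (g : Ha) (hgc.trans (MulAction.mem_stabilizer_iff.mp g.2).symm))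
  have hle : O.card ≤ 9 := by
    have := Finset.card_le_card (Finset.subset_univ (insert b O))
    rw [Finset.card_insert_of_notMem hbO, Finset.card_univ, hβ] at this
    omega
  have hpos : 0 < O.card := Finset.card_pos.mpr ⟨c, Set.mem_toFinset.mpr (MulAction.mem_orbit_self c)⟩
  have h3 := hdiv b c hc
  have hn3 := hno3 c
  rw [← hOc] at h3 hn3 ⊢
  by_contra h9
  have h6 : O.card = 6 := by omega
  obtain ⟨v, hv⟩ : ∃ v, v ∉ insert b O := by
    by_contra hcon
    push Not at hcon
    have := Finset.card_le_card (fun v _ => hcon v : (Finset.univ : Finset (Others a)) ⊆ insert b O)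
    rw [Finset.card_univ, hβ, Finset.card_insert_of_notMem hbO] at this
    omega
  rw [Finset.mem_insert, not_or] at hv
  set O' := (MulAction.orbit (MulAction.stabilizer Ha b) v).toFinset
  have hdis : Disjoint O' (insert b O) := by
    rw [Finset.disjoint_left]
    intro w hw hw'
    obtain ⟨g, hg⟩ := Set.mem_toFinset.mp hw
    have hg' : g • v = w := hg
    rcases Finset.mem_insert.mp hw' with rfl | hwO
    · exact hv.1 (smul_left_cancel (g : Ha) (hg'.trans (MulAction.mem_stabilizer_iff.mp g.2).symm))
    · obtain ⟨u, hu⟩ := Set.mem_toFinset.mp hwO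
      exact hv.2 (Set.mem_toFinset.mpr ⟨g⁻¹ * u, by
        show (g⁻¹ * u) • c = v
        rw [mul_smul, inv_smul_eq_iff, hg']; exact hu⟩)
  have hle' := Finset.card_le_card (Finset.subset_univ (O' ∪ insert b O))
  rw [Finset.card_union_of_disjoint hdis, Finset.card_univ, hβ, Finset.card_insert_of_notMem hbO, h6] at hle'
  have hO' : O'.card = Nat.card (MulAction.orbit (MulAction.stabilizer Ha b) v) := by
    rw [Set.toFinset_card, Nat.card_eq_fintype_card]
  have h3' := hdiv b v hv.1
  have hn3' := hno3 v
  rw [← hO'] at h3' hn3'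
  have hp' : 0 < O'.card := Finset.card_pos.mpr ⟨v, Set.mem_toFinset.mpr (MulAction.mem_orbit_self v)⟩
  omega

set_option maxHeartbeats 1600000 in
theorem fixed_le_three (h : Good T) [MulAction.IsPretransitive T α] (heven : T ≤ alternatingGroup α)
    (hT : Nat.card T = 7920) {g : Perm α} (hg : g ∈ T) (hg1 : g ≠ 1) :
    (Finset.univ.filter fun v => g v = v).card ≤ 3 := by
  classical
  haveI := Fact.mk Nat.prime_three
  obtain ⟨q, hqp, hq⟩ := Nat.exists_prime_and_dvd (show orderOf g ≠ 1 by simpa using hg1)
  set y := g ^ (orderOf g / q) with hydef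
  have hy : orderOf y = q := orderOf_pow_orderOf_div (orderOf_pos g).ne' hq
  have hyT : y ∈ T := T.pow_mem hg _
  have hsub : (Finset.univ.filter fun v => g v = v) ⊆ Finset.univ.filter fun v => y v = v := fun v hv => by
    simp only [Finset.mem_filter, Finset.mem_univ, true_and] at hv ⊢
    exact Equiv.Perm.pow_apply_eq_self_of_apply_eq_self hv _
  refine (Finset.card_le_card hsub).trans ?_
  by_contra hgt
  push Not at hgt
  set Fy := Finset.univ.filter fun v => y v = v with hFy
  have hcnt : Fy.card + y.support.card = 11 := by rw [hFy, fixed_card_add, h.card]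
  obtain ⟨m, hm, hle, hs, hpos, h2m⟩ := h.cycleType_prime hyT hqp hy
  have hq23 : (q = 2 ∧ y.support.card = 4) ∨ (q = 3 ∧ y.support.card = 6) := by
    have hq8 : q ≤ 8 := by nlinarith
    have h2 := h2m hq8
    have hqne7 : q ≠ 7 := fun e => h.not_order_seven hyT (hy.trans e)
    have hm3 : m * q ≤ 7 := by omega
    have hqle : q ≤ 3 := by nlinarith
    have := hqp.two_le
    interval_cases q
    · left
      refine ⟨rfl, ?_⟩
      obtain ⟨mm, hmm, -, hsupp, hsign⟩ := h.order_two hyT hy
      rw [Equiv.Perm.mem_alternatingGroup.mp (heven hyT)] at hsign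
      have : mm ≠ 3 := fun e => by subst e; exact absurd hsign (by decide)
      omega
    · right; exact ⟨rfl, by omega⟩
  obtain ⟨a, ha, b', hb', hab⟩ := Finset.one_lt_card.mp (show 1 < Fy.card by omega)
  simp only [Fy, Finset.mem_filter, Finset.mem_univ, true_and] at ha hb'
  obtain ⟨htr, h2s⟩ := two_stab h hT a
  let b : Others a := ⟨b', fun e => hab e.symm⟩
  obtain ⟨h72, horb9⟩ := h2s b
  set Ha := MulAction.stabilizer T a
  set H2 := MulAction.stabilizer Ha b
  let ι : H2 →* Perm α := (T.subtype.comp Ha.subtype).comp H2.subtype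
  have hι : Function.Injective ι := (T.subtype_injective.comp Ha.subtype_injective).comp Subtype.val_injective
  let yy : H2 := ⟨⟨⟨y, hyT⟩, ha⟩, Subtype.ext hb'⟩
  have hβ : Fintype.card (Others a) = 10 := by
    rw [Fintype.card_subtype_compl, h.card, Fintype.card_subtype_eq]
  obtain ⟨c, hcb⟩ := Fintype.exists_ne_of_one_lt_card (by rw [hβ]; norm_num) b
  have horbs : ∀ v : Others a, v ≠ b → v ∈ MulAction.orbit H2 c := by
    intro v hv
    have hu : insert b (MulAction.orbit H2 c).toFinset = Finset.univ := by
      refine Finset.eq_univ_of_card _ ?_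
      rw [Finset.card_insert_of_notMem, Set.toFinset_card, ← Nat.card_eq_fintype_card, horb9 c hcb, hβ]
      intro hb
      obtain ⟨g, hg⟩ := Set.mem_toFinset.mp hb
      have hgc : (g : Ha) • c = b := hg
      exact hcb (smul_left_cancel (g : Ha) (hgc.trans (MulAction.mem_stabilizer_iff.mp g.2).symm))
    have := Finset.ext_iff.mp hu v
    simpa [hv] using this
  -- the normal Sylow 3-subgroup
  obtain ⟨P⟩ : Nonempty (Sylow 3 H2) := inferInstance
  have hP : ∀ P : Sylow 3 H2, Nat.card P = 9 := fun P => by
    simpa using SmallSimple.card_sylow_of_eq (k := 2) (m := 8) P (by rw [h72]; norm_num) (by norm_num)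
  have hH3 : ∀ v : Others a, v ≠ b → Nat.card (MulAction.stabilizer H2 v) = 8 := by
    intro v hv
    have e := Subgroup.card_mul_index (MulAction.stabilizer H2 v)
    rw [MulAction.index_stabilizer, ← Nat.card_coe_set_eq, MulAction.orbit_eq_iff.mpr (horbs v hv), horb9 c hcb, h72] at e
    omega
  have hreg : ∀ P : Sylow 3 H2, ∀ p ∈ (P : Subgroup H2), ∀ v : Others a, v ≠ b → p • v = v → p = 1 := by
    intro P p hp v hv hfx
    have h1 : orderOf p ∣ 9 := by
      have := Subgroup.orderOf_dvd_natCard (s := (P : Subgroup H2)) hp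
      rwa [hP] at this
    have h2 : orderOf p ∣ 8 := by
      have := Subgroup.orderOf_dvd_natCard (s := MulAction.stabilizer H2 v) hfx
      rwa [hH3 v hv] at this
    exact orderOf_eq_one_iff.mp (Nat.eq_one_of_dvd_coprimes (by norm_num) h1 h2)
  have huniq : ∀ P P' : Sylow 3 H2, P = P' := by
    by_contra hne
    push Not at hne
    obtain ⟨P, P', hPP⟩ := hne
    set ρ := MulAction.toPermHom H2 (Sylow 3 H2)
    have hn : Nat.card (Sylow 3 H2) = 4 := by
      have h1 := SmallSimple.card_sylow_mul P
      rw [h72] at h1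
      have h2 := card_sylow_modEq_one 3 H2
      unfold Nat.ModEq at h2
      have h3 : 1 < Nat.card (Sylow 3 H2) := Finite.one_lt_card_iff_nontrivial.mpr ⟨⟨P, P', hPP⟩⟩
      obtain ⟨k, hk⟩ : 9 ∣ Nat.card (Subgroup.normalizer ((P : Subgroup H2) : Set H2)) := by
        rw [← hP P]; exact Subgroup.card_dvd_of_le Subgroup.le_normalizer
      rw [hk] at h1
      have hk' : Nat.card (Sylow 3 H2) * k = 8 := by nlinarith
      have h8 : Nat.card (Sylow 3 H2) ∣ 8 := ⟨k, hk'.symm⟩
      have := Nat.le_of_dvd (by norm_num) h8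
      interval_cases Nat.card (Sylow 3 H2) <;> omega
    have e := ρ.ker.card_mul_index
    rw [Subgroup.index_ker, h72] at e
    have hd := Subgroup.card_subgroup_dvd_card ρ.range
    rw [Nat.card_perm, hn] at hd
    have h3 : 3 ∣ Nat.card ρ.ker := by
      by_contra hk
      have h9 : 3 ^ 2 ∣ Nat.card ρ.range := Nat.Coprime.dvd_of_dvd_mul_left
        ((Nat.prime_three.coprime_iff_not_dvd.mpr hk).pow_left 2) (by rw [e]; norm_num)
      have := h9.trans hd
      revert this; decide
    obtain ⟨z, hz⟩ := exists_prime_orderOf_dvd_card' (G := ρ.ker) 3 h3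
    rw [← Subgroup.orderOf_coe] at hz
    have hzmem : ∀ P : Sylow 3 H2, (z : H2) ∈ (P : Subgroup H2) := by
      intro P
      have hfx : (z : H2) • P = P := congrArg (fun σ : Perm (Sylow 3 H2) => σ P) (MonoidHom.mem_ker.mp z.2)
      have hzn : (z : H2) ∈ Subgroup.normalizer ((P : Subgroup H2) : Set H2) := Sylow.smul_eq_iff_mem_normalizer.mp hfx
      have hzp : IsPGroup 3 (Subgroup.zpowers (z : H2)) := IsPGroup.of_card (n := 1) (by rw [Nat.card_zpowers, hz, pow_one])
      have hsup : IsPGroup 3 ((Subgroup.zpowers (z : H2)) ⊔ (P : Subgroup H2) : Subgroup H2) :=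
        hzp.to_sup_of_normal_right' P.2 (Subgroup.zpowers_le.mpr hzn)
      exact (P.3 hsup le_sup_right).le ((le_sup_left : Subgroup.zpowers (z : H2) ≤ _) (Subgroup.mem_zpowers _))
    let Q : Subgroup H2 := ⨅ P : Sylow 3 H2, (P : Subgroup H2)
    have hQn : Q.Normal := ⟨fun p hp u => by
      simp only [Q, Subgroup.mem_iInf] at hp ⊢
      intro R
      have hh := hp (u⁻¹ • R)
      rw [Sylow.coe_subgroup_smul, Subgroup.mem_pointwise_smul_iff_inv_smul_mem] at hh
      simpa [MulAut.smul_def] using hh⟩
    have hQd : Nat.card Q ∣ 9 := hP P ▸ Subgroup.card_dvd_of_le (iInf_le _ P)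
    have hQ3 : Nat.card Q = 3 := by
      have hlt : Nat.card Q ≠ 9 := fun e => by
        have h1 : Q = (P : Subgroup H2) := Subgroup.eq_of_le_of_card_ge (iInf_le _ P) (by rw [e, hP])
        have h2 : Q = (P' : Subgroup H2) := Subgroup.eq_of_le_of_card_ge (iInf_le _ P') (by rw [e, hP])
        exact hPP (Sylow.ext (h1.symm.trans h2))
      have h3Q : 3 ∣ Nat.card Q := by
        rw [← hz]; exact Subgroup.orderOf_dvd_natCard (s := Q) (Subgroup.mem_iInf.mpr hzmem)
      have := Nat.le_of_dvd (by norm_num) hQd
      interval_cases Nat.card Q <;> omega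
    have hzQ : Q = Subgroup.zpowers (z : H2) := (Subgroup.eq_of_le_of_card_ge
      (Subgroup.zpowers_le.mpr (Subgroup.mem_iInf.mpr hzmem)) (by rw [hQ3, Nat.card_zpowers, hz])).symm
    haveI : Fact (Nat.Prime 3) := ⟨Nat.prime_three⟩
    have hC : 36 ∣ Nat.card (Subgroup.centralizer ((Q : Subgroup H2) : Set H2)) := by
      have e1 := SmallSimple.card_normalizer_eq Q
      rw [Subgroup.normalizer_eq_top_iff.mpr hQn, Subgroup.card_top, h72] at e1
      have hd2 := SmallSimple.relIndex_dvd_of_card_prime (p := 3) Q hQ3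
      rw [Subgroup.normalizer_eq_top_iff.mpr hQn] at hd2
      rcases (Nat.dvd_prime Nat.prime_two).mp hd2 with e2 | e2 <;> rw [e2] at e1
      · exact ⟨2, by omega⟩
      · exact ⟨1, by omega⟩
    have hzsupp : ∀ v : α, ι z v = v ↔ v = a ∨ v = b' := by
      intro v
      constructor
      · intro hv
        by_contra hcon
        push Not at hcon
        have := hreg P z (hzmem P) ⟨v, hcon.1⟩ (fun e => hcon.2 (congrArg Subtype.val e)) (Subtype.ext hv)
        rw [this, orderOf_one] at hz
        omega
      · rintro (rfl | rfl)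
        · exact ((z : H2) : Ha).2
        · exact congrArg Subtype.val (z : H2).2
    have hs9 : (ι z).support.card = 9 := by
      have h0 := fixed_card_add (ι z)
      rw [h.card, show (Finset.univ.filter fun v => ι z v = v) = {a, b'} from Finset.ext fun v => by simp [hzsupp],
        Finset.card_pair hab] at h0
      omega
    obtain ⟨m', hm', -, hs', -, -⟩ := h.cycleType_prime (g := ι z) ((((z : H2) : Ha) : T).2) Nat.prime_three
      (by rw [orderOf_injective ι hι]; exact hz)
    have hm3 : m' = 3 := by omega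
    have hd' := card_stab_center h.card (hm3 ▸ hm') hab ((hzsupp a).mpr (Or.inl rfl)) ((hzsupp b').mpr (Or.inr rfl))
    let κ : Subgroup.centralizer ((Q : Subgroup H2) : Set H2) →*
        MulAction.stabilizer (Subgroup.centralizer ({ι z} : Set (Perm α))) a :=
      MonoidHom.mk' (fun u => ⟨⟨ι u, Subgroup.mem_centralizer_singleton_iff.mpr (by
        have := Subgroup.mem_centralizer_iff.mp u.2 (z : H2) (Subgroup.mem_iInf.mpr hzmem)
        rw [← map_mul, ← map_mul, this])⟩, ((u : H2) : Ha).2⟩) fun u v => Subtype.ext (Subtype.ext (map_mul ι _ _))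
    have hκ : Function.Injective κ := fun u v e => Subtype.ext (hι (congrArg (fun w => ((w : Subgroup.centralizer
      ({ι z} : Set (Perm α))) : Perm α)) (congrArg Subtype.val e)))
    have := (hC.trans (Subgroup.card_dvd_of_injective κ hκ)).trans hd'
    norm_num at this
  haveI hnor : (P : Subgroup H2).Normal := by
    haveI : Subsingleton (Sylow 3 H2) := ⟨huniq⟩
    exact Sylow.normal_of_subsingleton P
  rcases hq23 with ⟨rfl, hsupp⟩ | ⟨rfl, hsupp⟩
  · -- involutions
    set Fb := (Finset.univ : Finset (Others a)).filter fun v => v ≠ b ∧ yy • v = v with hFb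
    have hFb5 : 5 ≤ Fb.card := by
      have hsub' : (Fy.erase a).erase b' ⊆ Fb.map (Function.Embedding.subtype _) := by
        intro v hv
        simp only [Finset.mem_erase, Fy, Finset.mem_filter, Finset.mem_univ, true_and] at hv
        exact Finset.mem_map.mpr ⟨⟨v, hv.2.1⟩, Finset.mem_filter.mpr ⟨Finset.mem_univ _,
          fun e => hv.1 (congrArg Subtype.val e), Subtype.ext hv.2.2⟩, rfl⟩
      have h1 := Finset.card_le_card hsub'
      rw [Finset.card_map] at h1
      have haF : a ∈ Fy := by simp [Fy, ha]
      have hbF : b' ∈ Fy.erase a := Finset.mem_erase.mpr ⟨hab.symm, by simp [Fy, hb']⟩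
      rw [Finset.card_erase_of_mem hbF, Finset.card_erase_of_mem haF] at h1
      omega
    obtain ⟨v0, hv0⟩ := Finset.card_pos.mp (show 0 < Fb.card by omega)
    obtain ⟨hv0b, hv0f⟩ := (Finset.mem_filter.mp hv0).2
    have htrans : ∀ v : Others a, v ≠ b → ∃ p : (P : Subgroup H2), (p : H2) • v0 = v := by
      let img : Finset (Others a) := Finset.image (fun p : ↥(P : Subgroup H2) => (p : H2) • v0) Finset.univ
      have hinj : Function.Injective fun p : (P : Subgroup H2) => (p : H2) • v0 := fun p p' e => by
        have := hreg P ((p' : H2)⁻¹ * p) (mul_mem (inv_mem p'.2) p.2) v0 hv0b (by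
          rw [mul_smul, inv_smul_eq_iff]; exact e)
        exact Subtype.ext (inv_mul_eq_one.mp this).symm
      intro v hv
      have hu : insert b img = Finset.univ := by
        refine Finset.eq_univ_of_card _ ?_
        rw [Finset.card_insert_of_notMem, Finset.card_image_of_injective _ hinj, Finset.card_univ,
          ← Nat.card_eq_fintype_card, hP, hβ]
        intro hbi
        obtain ⟨p, -, hpb⟩ := Finset.mem_image.mp hbi
        have hpb' : ((p : H2) : Ha) • v0 = b := hpb
        exact hv0b (smul_left_cancel ((p : H2) : Ha) (hpb'.trans (MulAction.mem_stabilizer_iff.mp (p : H2).2).symm))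
      have := (Finset.ext_iff.mp hu v).mpr (Finset.mem_univ v)
      rcases Finset.mem_insert.mp this with e | e
      · exact absurd e hv
      · obtain ⟨p, -, hp⟩ := Finset.mem_image.mp e
        exact ⟨p, hp⟩
    let CP : Subgroup (P : Subgroup H2) := (Subgroup.centralizer ({yy} : Set H2)).subgroupOf (P : Subgroup H2)
    have hsur : ∀ v ∈ Fb, ∃ p : CP, ((p : (P : Subgroup H2)) : H2) • v0 = v := by
      intro v hv
      obtain ⟨hvb, hvf⟩ := (Finset.mem_filter.mp hv).2
      obtain ⟨p, rfl⟩ := htrans v hvb
      refine ⟨⟨p, ?_⟩, rfl⟩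
      rw [Subgroup.mem_subgroupOf, Subgroup.mem_centralizer_singleton_iff]
      have hm' : (p : H2)⁻¹ * (yy * p * yy⁻¹) ∈ (P : Subgroup H2) :=
        mul_mem (inv_mem p.2) (hnor.conj_mem _ p.2 yy)
      have h1 := hreg P _ hm' v0 hv0b (by
        rw [mul_smul, mul_smul, mul_smul, inv_smul_eq_iff.mpr hv0f.symm, inv_smul_eq_iff]
        exact hvf)
      rw [inv_mul_eq_one] at h1
      conv_lhs => rw [h1]
      group
    choose s hs' using hsur
    have hle' : Fb.card ≤ Nat.card CP := by
      rw [Nat.card_eq_fintype_card, ← Fintype.card_coe]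
      refine Fintype.card_le_of_injective (fun v => s v.1 v.2) fun u v e => Subtype.ext ?_
      rw [← hs' u.1 u.2, ← hs' v.1 v.2]
      exact congrArg (fun p : CP => ((p : (P : Subgroup H2)) : H2) • v0) e
    have hdvd := Subgroup.card_subgroup_dvd_card CP
    rw [hP] at hdvd
    have h9 : Nat.card CP = 9 := by
      have := Nat.le_of_dvd (by norm_num) hdvd
      interval_cases Nat.card CP <;> omega
    have htop : CP = ⊤ := Subgroup.eq_top_of_card_eq _ (by rw [h9, hP])
    have h1 : yy = 1 := by
      have hall : ∀ v : Others a, ((yy : Ha)) • v = v := by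
        intro v
        by_cases hv : v = b
        · exact hv ▸ yy.2
        · obtain ⟨p, rfl⟩ := htrans v hv
          have hp : (p : H2) ∈ Subgroup.centralizer ({yy} : Set H2) :=
            Subgroup.mem_subgroupOf.mp (htop.ge (Subgroup.mem_top p))
          show yy • (p : H2) • v0 = (p : H2) • v0
          rw [← mul_smul, ← Subgroup.mem_centralizer_singleton_iff.mp hp, mul_smul, hv0f]
      refine Subtype.ext (eq_of_smul_eq_smul (α := Others a) fun v => ?_)
      rw [hall v]; simp
    have hy1 : y = 1 := congrArg ι h1 |>.trans (map_one ι)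
    rw [hy1, orderOf_one] at hy
    omega
  · -- elements of order three
    have hmem : yy ∈ (P : Subgroup H2) := by
      have hp : IsPGroup 3 (Subgroup.zpowers yy) := IsPGroup.of_card (n := 1) (by
        rw [Nat.card_zpowers, ← orderOf_injective ι hι, pow_one]; exact hy)
      obtain ⟨R, hR⟩ := hp.exists_le_sylow
      exact huniq R P ▸ hR (Subgroup.mem_zpowers yy)
    obtain ⟨v, hv, hvb⟩ : ∃ v ∈ Fy.erase a, v ≠ b' := Finset.exists_mem_ne (by
      rw [Finset.card_erase_of_mem (by simp [Fy, ha])]; omega) b'
    simp only [Finset.mem_erase, Fy, Finset.mem_filter, Finset.mem_univ, true_and] at hv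
    have := hreg P yy hmem ⟨v, hv.1⟩ (fun e => hvb (congrArg Subtype.val e)) (Subtype.ext hv.2)
    have hy1 : y = 1 := congrArg ι this |>.trans (map_one ι)
    rw [hy1, orderOf_one] at hy
    omega

end Cfsg.Agent.Degree11
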