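import Cfsg.Agent.Lib.Degree11.Odd
import Mathlib.GroupTheory.GroupAction.MultipleTransitivity

/-! The transitive groups of degree eleven. -/

set_option autoImplicit false

namespace Cfsg.Agent.Degree11

open Equiv Equiv.Perm

variable {α : Type*} [Fintype α] [DecidableEq α] {G : Subgroup (Perm α)}

theorem embedding_card (hα : Fintype.card α = 11) : Fintype.card (Fin 4 ↪ α) = 7920 := by
  rw [Fintype.card_embedding_eq, hα, Fintype.card_fin]; rfl

theorem quad {T : Subgroup (Perm α)} (hTr : MulAction.IsMultiplyPretransitive T α 4) {a b c d a' b' c' d' : α}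
    (h1 : a ≠ b) (h2 : a ≠ c) (h3 : a ≠ d) (h4 : b ≠ c) (h5 : b ≠ d) (h6 : c ≠ d)
    (k1 : a' ≠ b') (k2 : a' ≠ c') (k3 : a' ≠ d') (k4 : b' ≠ c') (k5 : b' ≠ d') (k6 : c' ≠ d') :
    ∃ g ∈ T, g a = a' ∧ g b = b' ∧ g c = c' ∧ g d = d' := by
  have mk : ∀ p q r s : α, p ≠ q → p ≠ r → p ≠ s → q ≠ r → q ≠ s → r ≠ s →
      ∃ e : Fin 4 ↪ α, e 0 = p ∧ e 1 = q ∧ e 2 = r ∧ e 3 = s := by
    intro p q r s a1 a2 a3 a4 a5 a6
    refine ⟨⟨![p, q, r, s], ?_⟩, rfl, rfl, rfl, rfl⟩
    intro i j hij
    fin_cases i <;> fin_cases j <;> simp_all [eq_comm]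
  obtain ⟨e, e0, e1, e2, e3⟩ := mk a b c d h1 h2 h3 h4 h5 h6
  obtain ⟨e', f0, f1, f2, f3⟩ := mk a' b' c' d' k1 k2 k3 k4 k5 k6
  haveI : MulAction.IsPretransitive T (Fin 4 ↪ α) := hTr
  obtain ⟨g, hg⟩ := MulAction.exists_smul_eq T e e'
  refine ⟨g, g.2, ?_, ?_, ?_, ?_⟩
  · rw [← e0, ← f0, ← hg]; rfl
  · rw [← e1, ← f1, ← hg]; rfl
  · rw [← e2, ← f2, ← hg]; rfl
  · rw [← e3, ← f3, ← hg]; rfl

theorem four_transitive {T : Subgroup (Perm α)} (hα : Fintype.card α = 11) (hT : Nat.card T = 7920)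
    (hfix : ∀ g ∈ T, g ≠ 1 → (Finset.univ.filter fun v => g v = v).card ≤ 3) :
    MulAction.IsMultiplyPretransitive T α 4 ∧ ∀ x : Fin 4 ↪ α, MulAction.stabilizer T x = ⊥ := by
  classical
  have hst : ∀ x : Fin 4 ↪ α, MulAction.stabilizer T x = ⊥ := by
    intro x
    rw [Subgroup.eq_bot_iff_forall]
    intro g hg
    by_contra hne
    have hle := hfix g g.2 fun e => hne (Subtype.ext e)
    have hsub : (Finset.univ.map x) ⊆ Finset.univ.filter fun v => (g : Perm α) v = v := by
      intro v hv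
      obtain ⟨i, -, rfl⟩ := Finset.mem_map.mp hv
      exact Finset.mem_filter.mpr ⟨Finset.mem_univ _, congrArg (fun e : Fin 4 ↪ α => e i) hg⟩
    have := Finset.card_le_card hsub
    simp at this
    omega
  refine ⟨⟨fun x y => ?_⟩, hst⟩
  have hbij : Function.Bijective fun g : T => g • x := by
    refine (Nat.bijective_iff_injective_and_card _).2 ⟨fun g g' e => ?_, ?_⟩
    · have hm : g⁻¹ * g' ∈ MulAction.stabilizer T x := by
        rw [MulAction.mem_stabilizer_iff, mul_smul, inv_smul_eq_iff]; exact e.symm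
      rw [hst, Subgroup.mem_bot, inv_mul_eq_one] at hm
      exact hm
    · rw [hT, Nat.card_eq_fintype_card (α := Fin 4 ↪ α), embedding_card hα]
  exact hbij.2 y

theorem not_15840 (hα : Fintype.card α = 11) (h : Good G) {T : Subgroup (Perm α)} (hTG : T ≤ G)
    (hTA : T ≤ alternatingGroup α)
    (hTr : MulAction.IsMultiplyPretransitive T α 4)
    (hfix : ∀ g ∈ T, g ≠ 1 → (Finset.univ.filter fun v => g v = v).card ≤ 3)
    (hev : ∀ g ∈ G, Perm.sign g = 1 → g ∈ T) {g0 : Perm α} (hg0 : g0 ∈ G) (hodd : Perm.sign g0 = -1) : False := by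
  classical
  have hone : ∀ g ∈ T, ∀ s : Finset α, 4 ≤ s.card → (∀ v ∈ s, g v = v) → g = 1 := by
    intro g hg s hs hv
    by_contra hne
    have := Finset.card_le_card (fun v hv' => Finset.mem_filter.mpr ⟨Finset.mem_univ v, hv v hv'⟩ :
      s ⊆ Finset.univ.filter fun v => g v = v)
    have := hfix g hg hne
    omega
  have hpos : 4 ≤ (Finset.univ : Finset α).card := by rw [Finset.card_univ, hα]; norm_num
  obtain ⟨s4, -, hs4⟩ := Finset.exists_subset_card_eq hpos
  obtain ⟨a, b, c, d, h1, h2, h3, h4, h5, h6, rfl⟩ := Finset.card_eq_four.mp hs4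
  obtain ⟨t0, ht0, q1, q2, q3, q4⟩ := quad hTr (g0.injective.ne h1) (g0.injective.ne h2) (g0.injective.ne h3)
    (g0.injective.ne h4) (g0.injective.ne h5) (g0.injective.ne h6) h1 h2 h3 h4 h5 h6
  set t := t0 * g0 with htdef
  have htG : t ∈ G := G.mul_mem (hTG ht0) hg0
  have htb : ∀ v ∈ ({a, b, c, d} : Finset α), t v = v := by
    intro v hv
    simp only [Finset.mem_insert, Finset.mem_singleton] at hv
    rw [htdef, Perm.mul_apply]
    rcases hv with rfl | rfl | rfl | rfl <;> assumption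
  have hsame : ∀ u ∈ G, ∀ v ∈ G, Perm.sign u = -1 → Perm.sign v = -1 → ∀ s : Finset α, 4 ≤ s.card →
      (∀ w ∈ s, u w = w) → (∀ w ∈ s, v w = w) → u = v := by
    intro u hu v hv su sv s hs fu fv
    have := hone (u⁻¹ * v) (hev _ (G.mul_mem (G.inv_mem hu) hv) (by rw [map_mul, map_inv, su, sv]; rfl)) s hs fun w hw => by
      rw [Perm.mul_apply, fv w hw, Perm.inv_eq_iff_eq, fu w hw]
    exact inv_mul_eq_one.mp this
  have ht0s : Perm.sign t0 = 1 := Equiv.Perm.mem_alternatingGroup.mp (hTA ht0)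
  have hts : Perm.sign t = -1 := by rw [htdef, map_mul, ht0s, hodd]; rfl
  have ht2 : t ^ 2 = 1 := hone _ (hev _ (G.pow_mem htG 2) (by rw [map_pow, hts]; rfl)) _ (by rw [hs4])
    fun v hv => Equiv.Perm.pow_apply_eq_self_of_apply_eq_self (htb v hv) 2
  have htne : t ≠ 1 := fun e => by rw [e, map_one] at hts; exact absurd hts (by decide)
  have hto : orderOf t = 2 := orderOf_eq_prime ht2 htne
  obtain ⟨m, hm2, hm5, hsupp, hsign⟩ := h.order_two htG hto
  set B := Finset.univ.filter fun v => t v = v with hB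
  have hBc : B.card + 2 * m = 11 := by rw [← hsupp, hB, fixed_card_add, hα]
  have hsubB : ({a, b, c, d} : Finset α) ⊆ B := fun v hv => Finset.mem_filter.mpr ⟨Finset.mem_univ v, htb v hv⟩
  have hB4 : 4 ≤ B.card := hs4 ▸ Finset.card_le_card hsubB
  have hm : m = 3 := by
    rw [hts] at hsign
    have : m ≠ 2 := fun e => by subst e; exact absurd hsign (by decide)
    omega
  have hB5 : B.card = 5 := by omega
  obtain ⟨e, he, hev'⟩ : ∃ e ∈ B, e ∉ ({a, b, c, d} : Finset α) :=
    Finset.exists_mem_notMem_of_card_lt_card (by rw [hs4, hB5]; norm_num)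
  simp only [Finset.mem_insert, Finset.mem_singleton, not_or] at hev'
  have hBeq : B = {a, b, c, d, e} := by
    refine (Finset.eq_of_subset_of_card_le ?_ ?_).symm
    · intro v hv
      simp only [Finset.mem_insert, Finset.mem_singleton] at hv
      rcases hv with rfl | rfl | rfl | rfl | rfl
      · exact hsubB (by simp)
      · exact hsubB (by simp)
      · exact hsubB (by simp)
      · exact hsubB (by simp)
      · exact he
    · rw [hB5, Finset.card_insert_of_notMem, Finset.card_insert_of_notMem, Finset.card_insert_of_notMem,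
        Finset.card_pair (fun h' => hev'.2.2.2 h'.symm)]
      · simp [h6, Ne.symm hev'.2.2.1]
      · simp [h4, h5, Ne.symm hev'.2.1]
      · simp [h1, h2, h3, Ne.symm hev'.1]
  obtain ⟨g, hg, g1, g2, g3, g4⟩ := quad hTr h1 h2 h3 h4 h5 h6 h4 h5 (Ne.symm hev'.2.1) h6 (Ne.symm hev'.2.2.1)
    (Ne.symm hev'.2.2.2)
  have hgt : g * t = t * g := by
    have heq : g * t * g⁻¹ = t := by
      refine hsame _ (G.mul_mem (G.mul_mem (hTG hg) htG) (G.inv_mem (hTG hg))) _ htG
        (by rw [map_mul, map_mul, map_inv, hts, Equiv.Perm.mem_alternatingGroup.mp (hTA hg)]; rfl) hts {b, c, d, e}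
        (by rw [Finset.card_eq_four.mpr ⟨b, c, d, e, h4, h5, Ne.symm hev'.2.1, h6, Ne.symm hev'.2.2.1,
          Ne.symm hev'.2.2.2, rfl⟩]) ?_ ?_
      · intro w hw
        simp only [Finset.mem_insert, Finset.mem_singleton] at hw
        rw [Perm.mul_apply, Perm.mul_apply]
        rcases hw with rfl | rfl | rfl | rfl
        · rw [← g1]; simp [htb a (by simp)]
        · rw [← g2]; simp [htb b (by simp)]
        · rw [← g3]; simp [htb c (by simp)]
        · rw [← g4]; simp [htb d (by simp)]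
      · intro w hw
        simp only [Finset.mem_insert, Finset.mem_singleton] at hw
        have : w ∈ B := by rw [hBeq]; simp only [Finset.mem_insert, Finset.mem_singleton]; tauto
        exact (Finset.mem_filter.mp this).2
    exact mul_inv_eq_iff_eq_mul.mp heq
  have hte : t e = e := (Finset.mem_filter.mp he).2
  have hge : g e = a := by
    have hmem : g e ∈ B := Finset.mem_filter.mpr ⟨Finset.mem_univ _, by
      rw [← Perm.mul_apply, ← hgt, Perm.mul_apply, hte]⟩
    rw [hBeq] at hmem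
    simp only [Finset.mem_insert, Finset.mem_singleton] at hmem
    rcases hmem with h' | h' | h' | h' | h'
    · exact h'
    · exact absurd (g.injective (h'.trans g1.symm)) hev'.1
    · exact absurd (g.injective (h'.trans g2.symm)) hev'.2.1
    · exact absurd (g.injective (h'.trans g3.symm)) hev'.2.2.1
    · exact absurd (g.injective (h'.trans g4.symm)) hev'.2.2.2
  have h5' : (g ^ 5) a = a := by
    simp only [pow_succ, pow_zero, one_mul, Perm.mul_apply]
    rw [g1, g2, g3, g4, hge]
  have h48 : (g ^ 48) a = d := by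
    rw [show 48 = 3 + 5 * 9 from rfl, pow_add, pow_mul, Perm.mul_apply,
      Equiv.Perm.pow_apply_eq_self_of_apply_eq_self h5' 9]
    simp only [pow_succ, pow_zero, one_mul, Perm.mul_apply]
    rw [g1, g2, g3]
  -- on the six moved points the element lies in a centralizer of order 48
  set M := Bᶜ with hM
  have hMmem : ∀ v, v ∈ M ↔ t v ≠ v := fun v => by simp [hM, hB]
  have hginv : ∀ v, g v ∈ M ↔ v ∈ M := fun v => by
    rw [hMmem, hMmem, ← Perm.mul_apply, ← hgt, Perm.mul_apply]
    exact g.injective.ne_iff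
  have htinv : ∀ v, t v ∈ M ↔ v ∈ M := fun v => by
    rw [hMmem, hMmem]; exact t.injective.ne_iff
  let τ : Perm {v // v ∈ M} := t.subtypePerm htinv
  let σ : Perm {v // v ∈ M} := g.subtypePerm hginv
  have hM6 : Fintype.card {v // v ∈ M} = 6 := by
    rw [Fintype.card_coe, hM, Finset.card_compl, hα, hB5]
  have hτs : τ.support = Finset.univ := Finset.eq_univ_of_forall fun v => by
    rw [Equiv.Perm.mem_support]
    exact fun e' => (hMmem v).mp v.2 (congrArg Subtype.val e')
  have hτc : τ.cycleType = Multiset.replicate 3 2 := by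
    have hτ2 : τ ^ 2 = 1 := by
      rw [Equiv.Perm.subtypePerm_pow]; ext v; simp [ht2]
    have hτ1 : τ ≠ 1 := fun e' => by
      rw [e', Equiv.Perm.support_one] at hτs
      have := congrArg Finset.card hτs
      rw [Finset.card_empty, Finset.card_univ, hM6] at this
      omega
    obtain ⟨k, hk⟩ := Equiv.Perm.cycleType_prime_order (σ := τ) (by rw [orderOf_eq_prime hτ2 hτ1]; exact Nat.prime_two)
    rw [orderOf_eq_prime hτ2 hτ1] at hk
    have hs := Equiv.Perm.sum_cycleType τ
    rw [hτs, Finset.card_univ, hM6, hk, Multiset.sum_replicate, smul_eq_mul] at hs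
    rw [hk, show k + 1 = 3 by omega]
  have hσ : σ ∈ Subgroup.centralizer ({τ} : Set (Perm {v // v ∈ M})) := by
    rw [Subgroup.mem_centralizer_singleton_iff]
    ext v
    exact congrArg (fun p : Perm α => p v) hgt
  have hσ48 : σ ^ 48 = 1 := by
    have hc : Nat.card (Subgroup.centralizer ({τ} : Set (Perm {v // v ∈ M}))) = 48 := by
      rw [Equiv.Perm.nat_card_centralizer, hτc, hM6]; decide
    exact orderOf_dvd_iff_pow_eq_one.mp ((Subgroup.orderOf_dvd_natCard (s := Subgroup.centralizer _) hσ).trans (dvd_of_eq hc))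
  have hfixM : ∀ v ∈ M, (g ^ 48) v = v := by
    intro v hv
    have := congrArg (fun p : Perm {v // v ∈ M} => ((p ⟨v, hv⟩ : {v // v ∈ M}) : α)) hσ48
    simpa [σ, Equiv.Perm.subtypePerm_pow] using this
  have h1' := hone _ (T.pow_mem hg 48) M (by rw [hM, Finset.card_compl, hα, hB5]; norm_num) hfixM
  rw [h1'] at h48
  exact h3 h48

theorem main (hα : Fintype.card α = 11) (G : Subgroup (Perm α)) [MulAction.IsPretransitive G α]
    (hG : ¬ Group.IsSolvable G) (hA : ¬ alternatingGroup α ≤ G) :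
    (MulAction.IsMultiplyPretransitive G α 4 ∧ ∀ x : Fin 4 ↪ α, MulAction.stabilizer G x = ⊥) ∨
      (Nat.card G = 660 ∧ IsSimpleGroup G) := by
  classical
  have hGd := good_of_not_le hα G hA
  set T := G ⊓ alternatingGroup α with hT
  have hTle : T ≤ G := inf_le_left
  have hTA : T ≤ alternatingGroup α := inf_le_right
  haveI : Fact (Nat.Prime 11) := ⟨by norm_num⟩
  obtain ⟨ω⟩ : Nonempty α := Fintype.card_pos_iff.mp (by rw [hα]; norm_num)
  have h11 : 11 ∣ Nat.card G := by
    have h := (MulAction.stabilizer G ω).index_dvd_card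
    rwa [MulAction.index_stabilizer_of_transitive, Nat.card_eq_fintype_card, hα] at h
  obtain ⟨x, hx⟩ := exists_prime_orderOf_dvd_card' (G := G) 11 h11
  rw [← Subgroup.orderOf_coe] at hx
  obtain ⟨ht, hsup, hxev⟩ := hGd.order_eleven x.2 hx
  have hTtr : ∀ u v : α, ∃ t : T, T.subtype t u = v := by
    intro u v
    have hc : (x : Perm α).IsCycle := Equiv.Perm.card_cycleType_eq_one.mp (by rw [ht]; rfl)
    obtain ⟨j, hj⟩ := hc.exists_zpow_eq (Equiv.Perm.mem_support.mp (hsup ▸ Finset.mem_univ u))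
      (Equiv.Perm.mem_support.mp (hsup ▸ Finset.mem_univ v))
    exact ⟨⟨_, T.zpow_mem (show (x : Perm α) ∈ T from ⟨x.2, hxev⟩) j⟩, hj⟩
  let sg : G →* ℤˣ := Perm.sign.comp G.subtype
  have hker : ∀ g : G, g ∈ sg.ker ↔ (g : Perm α) ∈ T := fun g => by
    rw [MonoidHom.mem_ker, hT, Subgroup.mem_inf, Equiv.Perm.mem_alternatingGroup]
    exact ⟨fun h => ⟨g.2, h⟩, fun h => h.2⟩
  have hTns : ¬ Group.IsSolvable T := by
    intro hTs
    haveI : Group.IsSolvable ℤˣ := isSolvable_of_comm mul_comm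
    haveI : Group.IsSolvable sg.ker := solvable_of_solvable_injective
      (f := MonoidHom.mk' (fun g => (⟨((g : G) : Perm α), (hker g).mp g.2⟩ : T)) fun _ _ => rfl)
      fun u v e => Subtype.ext (Subtype.ext (congrArg (fun q : T => (q : Perm α)) e))
    exact hG (solvable_of_ker_le_range sg.ker.subtype sg (by simp))
  obtain ⟨hsimple, hcard⟩ := structure_main T.subtype T.subtype_injective
    (by rw [Subgroup.range_subtype]; exact hGd.mono hTle) (by rw [Subgroup.range_subtype]; exact hTA) hTtr hTns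
  haveI : MulAction.IsPretransitive T α := ⟨hTtr⟩
  have h7920 : Nat.card T = 7920 → MulAction.IsMultiplyPretransitive T α 4 ∧
      ∀ x : Fin 4 ↪ α, MulAction.stabilizer T x = ⊥ := fun h =>
    four_transitive hα h fun g hg hne => fixed_le_three (hGd.mono hTle) hTA h hg hne
  by_cases hev : G ≤ alternatingGroup α
  · have hGT : T = G := inf_eq_left.mpr hev
    rcases hcard with h | h
    · right
      refine ⟨hGT ▸ h, ?_⟩
      haveI := hsimple
      haveI : Nontrivial G := Finite.one_lt_card_iff_nontrivial.mp (by rw [← hGT, h]; norm_num)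
      exact IsSimpleGroup.isSimpleGroup_of_surjective (Subgroup.inclusion hGT.le)
        fun g => ⟨⟨g, hGT.ge g.2⟩, rfl⟩
    · left
      obtain ⟨h1, h2⟩ := h7920 h
      exact hGT ▸ ⟨h1, h2⟩
  · exfalso
    obtain ⟨g0, hg0, hodd⟩ := SetLike.not_le_iff_exists.mp hev
    have hs0 : Perm.sign g0 = -1 := (Int.units_eq_one_or _).resolve_left fun e => hodd (Equiv.Perm.mem_alternatingGroup.mpr e)
    have hcardG : Nat.card G = 2 * Nat.card T := by
      have hsur : Function.Surjective sg := fun u => by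
        rcases Int.units_eq_one_or u with rfl | rfl
        · exact ⟨1, map_one sg⟩
        · exact ⟨⟨g0, hg0⟩, hs0⟩
      have e := sg.ker.card_mul_index
      rw [Subgroup.index_ker, MonoidHom.range_eq_top.mpr hsur, Subgroup.card_top] at e
      have e' : Nat.card sg.ker = Nat.card T := Nat.card_congr
        { toFun := fun g => ⟨((g : G) : Perm α), (hker g).mp g.2⟩
          invFun := fun t => ⟨⟨t, hTle t.2⟩, (hker _).mpr t.2⟩
          left_inv := fun _ => rfl
          right_inv := fun _ => rfl }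
      rw [← e, e', show Nat.card ℤˣ = 2 by simp, mul_comm]
    rcases hcard with h | h
    · haveI := hsimple
      exact not_1320 hGd (by rw [hcardG, h]) h
    · obtain ⟨h1, -⟩ := h7920 h
      exact not_15840 hα hGd hTle hTA h1 (fun g hg hne => fixed_le_three (hGd.mono hTle) hTA h hg hne)
        (fun g hg hs => ⟨hg, Equiv.Perm.mem_alternatingGroup.mpr hs⟩) hg0 hs0

end Cfsg.Agent.Degree11
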