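import Cfsg.Agent.Lib.Degree11.Fixed

/-! A transitive group of degree eleven in question consists of even permutations. -/

set_option autoImplicit false

namespace Cfsg.Agent.Degree11

open Equiv Equiv.Perm
open scoped Pointwise

variable {α : Type*} [Fintype α] [DecidableEq α] {G : Subgroup (Perm α)}

theorem card_range_aux {A B : Type*} [Group A] [Group B] (f : A →* B) (hf : Function.Injective f) :
    Nat.card f.range = Nat.card A :=
  (Nat.card_congr (MonoidHom.ofInjective hf).toEquiv).symm

theorem not_order_ten_perm_six {β : Type*} [Fintype β] [DecidableEq β] (hβ : Fintype.card β = 6) {z : Perm β}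
    (hz : z ^ 10 = 1) : z ^ 5 = 1 ∨ z ^ 2 = 1 := by
  by_cases h2 : z ^ 2 = 1
  · exact Or.inr h2
  left
  haveI : Fact (Nat.Prime 5) := ⟨by norm_num⟩
  have ho : orderOf (z ^ 2) = 5 := orderOf_eq_prime (by rw [← pow_mul]; exact hz) h2
  obtain ⟨m, hm⟩ := Equiv.Perm.cycleType_prime_order (σ := z ^ 2) (by rw [ho]; norm_num)
  rw [ho] at hm
  have hs := Equiv.Perm.sum_cycleType (z ^ 2)
  rw [hm, Multiset.sum_replicate, smul_eq_mul] at hs
  have hle : (z ^ 2).support.card ≤ 6 := hβ ▸ Finset.card_le_univ _
  have hm0 : m = 0 := by omega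
  subst hm0
  have hC : Nat.card (Subgroup.centralizer ({z ^ 2} : Set (Perm β))) = 5 := by
    rw [Equiv.Perm.nat_card_centralizer, hm, hβ]; decide
  have hmem : z ^ 5 ∈ Subgroup.centralizer ({z ^ 2} : Set (Perm β)) :=
    Subgroup.mem_centralizer_singleton_iff.mpr (by rw [← pow_add, ← pow_add])
  have h1 : orderOf (z ^ 5) ∣ 5 :=
    (Subgroup.orderOf_dvd_natCard (s := Subgroup.centralizer _) hmem).trans (dvd_of_eq hC)
  have h2' : orderOf (z ^ 5) ∣ 2 := orderOf_dvd_of_pow_eq_one (by rw [← pow_mul]; exact hz)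
  exact orderOf_eq_one_iff.mp (Nat.eq_one_of_dvd_coprimes (by norm_num) h1 h2')

set_option maxHeartbeats 1600000 in
theorem not_1320 (h : Good G) [MulAction.IsPretransitive G α] (hG : Nat.card G = 1320)
    (hT : Nat.card (G ⊓ alternatingGroup α : Subgroup (Perm α)) = 660)
    [IsSimpleGroup (G ⊓ alternatingGroup α : Subgroup (Perm α))] : False := by
  classical
  haveI : Fact (Nat.Prime 11) := ⟨by norm_num⟩
  haveI : Fact (Nat.Prime 5) := ⟨by norm_num⟩
  haveI : Fact (Nat.Prime 2) := ⟨Nat.prime_two⟩
  set T := G ⊓ alternatingGroup α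
  -- an element of order ten
  obtain ⟨P⟩ : Nonempty (Sylow 11 G) := inferInstance
  have hP : Nat.card P = 11 := by
    simpa using SmallSimple.card_sylow_of_eq (k := 1) (m := 120) P (by rw [hG]; norm_num) (by norm_num)
  have hC := centralizer_sylow_eleven G.subtype G.subtype_injective (by rw [Subgroup.range_subtype]; exact h) P hP
  set N := Subgroup.normalizer ((P : Subgroup G) : Set G) with hN
  have hN110 : Nat.card N = 110 := by
    have e1 := SmallSimple.card_normalizer_eq (P : Subgroup G)
    rw [hC, hP] at e1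
    have hd := SmallSimple.relIndex_dvd_of_card_prime (p := 11) (P : Subgroup G) hP
    rw [hC] at hd
    set e := (P : Subgroup G).relIndex (Subgroup.normalizer ((P : Subgroup G) : Set G))
    have h1 := SmallSimple.card_sylow_mul P
    rw [← e1, hG] at h1
    have h2 := card_sylow_modEq_one 11 G
    unfold Nat.ModEq at h2
    have hne : Nat.card (Sylow 11 G) ≠ 1 := by
      intro h1'
      haveI : Subsingleton (Sylow 11 G) := (Nat.card_eq_one_iff_unique.mp h1').1
      haveI : (P : Subgroup G).Normal := Sylow.normal_of_subsingleton P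
      have hle : (P : Subgroup G).map G.subtype ≤ T := by
        rintro _ ⟨x, hx, rfl⟩
        refine ⟨x.2, ?_⟩
        rcases eq_or_ne (orderOf x) 1 with e1 | e1
        · rw [orderOf_eq_one_iff.mp e1]; exact one_mem _
        · have h11 : orderOf x = 11 := by
            have := Subgroup.orderOf_dvd_natCard (s := (P : Subgroup G)) hx
            rw [hP] at this
            exact ((Nat.dvd_prime (by norm_num)).mp this).resolve_left e1
          exact (h.order_eleven x.2 (by rw [Subgroup.orderOf_coe]; exact h11)).2.2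
      have hn : (((P : Subgroup G).map G.subtype).subgroupOf T).Normal := ⟨fun x hx u => by
        obtain ⟨y, hy, e⟩ := hx
        exact ⟨⟨u, (u.2).1⟩ * y * (⟨u, (u.2).1⟩ : G)⁻¹, Subgroup.Normal.conj_mem ‹_› y hy _,
          by show (u : Perm α) * y * (u : Perm α)⁻¹ = _; rw [show (y : Perm α) = x from e]; rfl⟩⟩
      have hc : Nat.card (((P : Subgroup G).map G.subtype).subgroupOf T) = 11 := by
        rw [Nat.card_congr (Subgroup.subgroupOfEquivOfLe hle).toEquiv,
          Subgroup.card_map_of_injective G.subtype_injective, hP]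
      rcases hn.eq_bot_or_eq_top with e | e
      · rw [e, Subgroup.card_bot] at hc; omega
      · rw [e, Subgroup.card_top, hT] at hc; omega
    have hle := Nat.le_of_dvd (by norm_num) hd
    rw [← hN] at e1
    interval_cases e <;> first | omega | (norm_num at hd)
  obtain ⟨s0, hs0⟩ := exists_prime_orderOf_dvd_card' (G := N) 2 (by rw [hN110]; norm_num)
  obtain ⟨f0, hf0⟩ := exists_prime_orderOf_dvd_card' (G := N) 5 (by rw [hN110]; norm_num)
  let φ := (P : Subgroup G).normalizerMonoidHom
  have hφ : ∀ u : N, φ u = 1 → orderOf u ∣ 11 := fun u hu => by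
    have hu' : u ∈ φ.ker := hu
    rw [Subgroup.normalizerMonoidHom_ker, Subgroup.mem_subgroupOf, hC] at hu'
    have := Subgroup.orderOf_dvd_natCard (s := (P : Subgroup G)) hu'
    rwa [hP, Subgroup.orderOf_coe] at this
  haveI : IsCyclic P := isCyclic_of_prime_card hP
  have hcomm : ∀ u v : MulAut P, u * v = v * u := fun u v => MulEquiv.ext fun w => by
    obtain ⟨i, hi⟩ := MonoidHom.map_cyclic u.toMonoidHom
    obtain ⟨j, hj⟩ := MonoidHom.map_cyclic v.toMonoidHom
    have hi' : ∀ g, u g = g ^ i := hi
    have hj' : ∀ g, v g = g ^ j := hj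
    simp only [MulAut.mul_apply, hi', hj', ← zpow_mul, mul_comm]
  have o2 : orderOf (φ s0) = 2 := by
    refine orderOf_eq_prime (by rw [← map_pow, ← hs0, pow_orderOf_eq_one, map_one]) fun e => ?_
    have := hφ _ e; rw [hs0] at this; norm_num at this
  have o5 : orderOf (φ f0) = 5 := by
    refine orderOf_eq_prime (by rw [← map_pow, ← hf0, pow_orderOf_eq_one, map_one]) fun e => ?_
    have := hφ _ e; rw [hf0] at this; norm_num at this
  have o10 : orderOf (φ (s0 * f0)) = 10 := by
    rw [map_mul, (show Commute (φ s0) (φ f0) from hcomm _ _).orderOf_mul_eq_mul_orderOf_of_coprime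
      (by rw [o2, o5]; norm_num), o2, o5]
  have hdvd : 10 ∣ orderOf (((s0 * f0 : N) : G) : Perm α) := by
    rw [Subgroup.orderOf_coe, Subgroup.orderOf_coe, ← o10]; exact orderOf_map_dvd φ _
  obtain ⟨z, hzG, hz⟩ : ∃ z ∈ G, orderOf z = 10 :=
    ⟨(((s0 * f0 : N) : G) : Perm α) ^ (orderOf (((s0 * f0 : N) : G) : Perm α) / 10),
      G.pow_mem (SetLike.coe_mem _) _, orderOf_pow_orderOf_div (orderOf_pos _).ne' hdvd⟩
  obtain ⟨hzsign, a, hza, hz5⟩ := h.order_ten hzG hz
  -- stabilisers
  set Ga := MulAction.stabilizer G a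
  have hGa : Nat.card Ga = 120 := by
    have e := Subgroup.card_mul_index Ga
    rw [MulAction.index_stabilizer_of_transitive, show Nat.card α = 11 by rw [Nat.card_eq_fintype_card, h.card], hG] at e
    omega
  let zz : Ga := ⟨⟨z, hzG⟩, hza⟩
  have hzz : orderOf zz = 10 := by rw [← Subgroup.orderOf_coe, ← Subgroup.orderOf_coe]; exact hz
  have hcyc : ∀ v w : α, v ≠ a → w ≠ a → ∃ k : ℕ, (z ^ k) v = w := by
    intro v w hv hw
    have hinj : Function.Injective fun k : Fin 10 => (z ^ (k : ℕ)) v := by
      intro i j e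
      by_contra hne
      wlog hlt : (j : ℕ) < i generalizing i j
      · exact this (i := j) (j := i) e.symm (Ne.symm hne) (by omega)
      have hk : (z ^ ((i : ℕ) - j)) v = v := by
        apply (z ^ (j : ℕ)).injective
        rw [← Perm.mul_apply, ← pow_add, Nat.add_sub_cancel' hlt.le]
        exact e
      set k := (i : ℕ) - j
      have hk0 : 0 < k ∧ k < 10 := ⟨by omega, by omega⟩
      rcases Nat.even_or_odd' k with ⟨q, hq | hq⟩
      · have ho : orderOf (z ^ k) = 5 := by
          rw [orderOf_pow' z (by omega), hz]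
          have : k = 2 ∨ k = 4 ∨ k = 6 ∨ k = 8 := by omega
          rcases this with e | e | e | e <;> rw [e] <;> rfl
        obtain ⟨-, ω, hω⟩ := h.order_five (G.pow_mem hzG k) ho
        exact hv (((hω v).mp hk).trans ((hω a).mp (Equiv.Perm.pow_apply_eq_self_of_apply_eq_self hza k)).symm)
      · refine hv ((hz5 v).mp ?_)
        have h5k : (z ^ (k * 5)) v = v := by
          rw [pow_mul]; exact Equiv.Perm.pow_apply_eq_self_of_apply_eq_self hk 5
        have hred : z ^ (k * 5) = z ^ 5 := by
          rw [← pow_mod_orderOf, hz, show k * 5 % 10 = 5 by omega]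
        rwa [hred] at h5k
    have hwm : w ∈ Finset.univ.image fun k : Fin 10 => (z ^ (k : ℕ)) v := by
      have he : (Finset.univ.image fun k : Fin 10 => (z ^ (k : ℕ)) v) = Finset.univ.erase a := by
        refine Finset.eq_of_subset_of_card_le ?_ ?_
        · intro u hu
          obtain ⟨k, -, rfl⟩ := Finset.mem_image.mp hu
          refine Finset.mem_erase.mpr ⟨fun e => hv ((z ^ (k : ℕ)).injective (e.trans
            (Equiv.Perm.pow_apply_eq_self_of_apply_eq_self hza _).symm)), Finset.mem_univ _⟩
        · rw [Finset.card_image_of_injective _ hinj, Finset.card_erase_of_mem (Finset.mem_univ a), Finset.card_univ,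
            h.card, Finset.card_univ, Fintype.card_fin]
      rw [he]
      exact Finset.mem_erase.mpr ⟨hw, Finset.mem_univ _⟩
    obtain ⟨k, -, hk⟩ := Finset.mem_image.mp hwm
    exact ⟨k, hk⟩
  -- z ^ 5 is central in the stabiliser
  have hcentral : ∀ g : Ga, g * zz ^ 5 = zz ^ 5 * g := by
    let Ta : Subgroup Ga := T.comap (G.subtype.comp Ga.subtype)
    have hcent5 : ∀ u : Ga, orderOf u = 5 → ∀ i : Ga, i ∈ Ta → orderOf i = 2 → i * u ≠ u * i := by
      intro u hu i hi hi2 hiu
      have h10 : orderOf (i * u) = 10 := by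
        rw [(show Commute i u from hiu).orderOf_mul_eq_mul_orderOf_of_coprime (by rw [hi2, hu]; norm_num), hi2, hu]
      rw [← Subgroup.orderOf_coe, ← Subgroup.orderOf_coe] at h10
      have hsg := (h.order_ten ((i * u : Ga) : G).2 h10).1
      have hu' : Perm.sign ((u : G) : Perm α) = 1 := by
        have h5 : orderOf (Perm.sign ((u : G) : Perm α)) ∣ 5 := by
          rw [← hu, ← Subgroup.orderOf_coe u, ← Subgroup.orderOf_coe (u : G)]; exact orderOf_map_dvd _ _
        have h2 : orderOf (Perm.sign ((u : G) : Perm α)) ∣ 2 := orderOf_dvd_of_pow_eq_one (Int.units_sq _)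
        exact orderOf_eq_one_iff.mp (Nat.eq_one_of_dvd_coprimes (by norm_num) h5 h2)
      have hi' : Perm.sign ((i : G) : Perm α) = 1 :=
        Equiv.Perm.mem_alternatingGroup.mp (show ((i : G) : Perm α) ∈ T from hi).2
      rw [Subgroup.coe_mul, Subgroup.coe_mul, map_mul, hi', hu', one_mul] at hsg
      exact absurd hsg (by decide)
    have hTa : Nat.card Ta = 60 := by
      have hTr : ∀ u v : α, ∃ t ∈ T, t u = v := by
        intro u v
        obtain ⟨x, hx⟩ := exists_prime_orderOf_dvd_card' (G := G) 11 (by rw [hG]; norm_num)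
        rw [← Subgroup.orderOf_coe] at hx
        obtain ⟨ht, hsup, hev⟩ := h.order_eleven x.2 hx
        have hc : (x : Perm α).IsCycle := Equiv.Perm.card_cycleType_eq_one.mp (by rw [ht]; rfl)
        obtain ⟨j, hj⟩ := hc.exists_zpow_eq (Equiv.Perm.mem_support.mp (hsup ▸ Finset.mem_univ u))
          (Equiv.Perm.mem_support.mp (hsup ▸ Finset.mem_univ v))
        exact ⟨_, T.zpow_mem (show (x : Perm α) ∈ T from ⟨x.2, hev⟩) j, hj⟩
      haveI : MulAction.IsPretransitive T α := ⟨fun u v => by
        obtain ⟨t, ht, e⟩ := hTr u v; exact ⟨⟨t, ht⟩, e⟩⟩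
      have e := Subgroup.card_mul_index (MulAction.stabilizer T a)
      rw [MulAction.index_stabilizer_of_transitive, show Nat.card α = 11 by rw [Nat.card_eq_fintype_card, h.card], hT] at e
      have e' : Nat.card Ta = Nat.card (MulAction.stabilizer T a) := Nat.card_congr
        { toFun := fun u => ⟨⟨((u : Ga) : G), u.2⟩, (u : Ga).2⟩
          invFun := fun u => ⟨⟨⟨u.1.1, u.1.2.1⟩, u.2⟩, u.1.2⟩
          left_inv := fun _ => rfl
          right_inv := fun _ => rfl }
      omega
    have hTn : Ta.Normal := ⟨fun x hx g => by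
      show (((g * x * g⁻¹ : Ga) : G) : Perm α) ∈ T
      refine ⟨((g * x * g⁻¹ : Ga) : G).2, ?_⟩
      rw [Subgroup.coe_mul, Subgroup.coe_mul, Subgroup.coe_mul, Subgroup.coe_mul]
      exact (inferInstance : (alternatingGroup α).Normal).conj_mem _ (show _ ∈ T from hx).2 _⟩
    set ρ := MulAction.toPermHom Ga (Sylow 5 Ga)
    obtain ⟨F⟩ : Nonempty (Sylow 5 Ga) := inferInstance
    have hF : ∀ F : Sylow 5 Ga, Nat.card F = 5 := fun F => by
      simpa using SmallSimple.card_sylow_of_eq (k := 1) (m := 24) F (by rw [hGa]; norm_num) (by norm_num)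
    have hFT : ∀ u : Ga, orderOf u = 5 → u ∈ Ta := by
      intro u hu
      refine ⟨(u : G).2, Equiv.Perm.mem_alternatingGroup.mpr ?_⟩
      have h5 : orderOf (Perm.sign ((u : G) : Perm α)) ∣ 5 := by
        rw [← hu, ← Subgroup.orderOf_coe u, ← Subgroup.orderOf_coe (u : G)]; exact orderOf_map_dvd _ _
      have h2 : orderOf (Perm.sign ((u : G) : Perm α)) ∣ 2 := orderOf_dvd_of_pow_eq_one (Int.units_sq _)
      exact orderOf_eq_one_iff.mp (Nat.eq_one_of_dvd_coprimes (by norm_num) h5 h2)
    -- the intersection of a normalizer with the even part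
    have hNT : ∀ F : Sylow 5 Ga, Nat.card (Subgroup.normalizer ((F : Subgroup Ga) : Set Ga) ⊓ Ta : Subgroup Ga) ∣ 20 := by
      intro F
      haveI : IsCyclic F := isCyclic_of_prime_card (hF F)
      let ψ := (Subgroup.normalizerMonoidHom (F : Subgroup Ga)).comp
        (Subgroup.inclusion (inf_le_left : Subgroup.normalizer ((F : Subgroup Ga) : Set Ga) ⊓ Ta ≤ _))
      have e := ψ.ker.card_mul_index
      rw [Subgroup.index_ker] at e
      have h1 : Nat.card ψ.range ∣ 4 := by
        have := Subgroup.card_subgroup_dvd_card ψ.range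
        rwa [IsCyclic.card_mulAut, hF F, Nat.totient_prime (by norm_num)] at this
      have h2 : Nat.card ψ.ker ∣ 5 := by
        obtain ⟨u, hu⟩ := IsCyclic.exists_ofOrder_eq_natCard (α := F)
        rw [hF F, ← Subgroup.orderOf_coe] at hu
        let κ : ψ.ker →* Ga := (Subgroup.subtype _).comp (Subgroup.subtype _)
        have hκ : Function.Injective κ := Subtype.val_injective.comp Subtype.val_injective
        have hrange : κ.range ≤ (Ta ⊓ Subgroup.centralizer ({(u : Ga)} : Set Ga)) := by
          rintro _ ⟨w, rfl⟩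
          refine ⟨(w.1).2.2, ?_⟩
          have hw : Subgroup.inclusion inf_le_left w.1 ∈
              (Subgroup.normalizerMonoidHom (F : Subgroup Ga)).ker := w.2
          rw [Subgroup.normalizerMonoidHom_ker, Subgroup.mem_subgroupOf] at hw
          exact Subgroup.mem_centralizer_singleton_iff.mpr ((Subgroup.mem_centralizer_iff.mp hw) u u.2).symm
        refine (card_range_aux κ hκ ▸ Subgroup.card_dvd_of_le hrange).trans ?_
        have hc2 : ¬ 2 ∣ Nat.card (Ta ⊓ Subgroup.centralizer ({(u : Ga)} : Set Ga) : Subgroup Ga) := by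
          intro hd
          obtain ⟨i, hi⟩ := exists_prime_orderOf_dvd_card'
            (G := (Ta ⊓ Subgroup.centralizer ({(u : Ga)} : Set Ga) : Subgroup Ga)) 2 hd
          rw [← Subgroup.orderOf_coe] at hi
          exact hcent5 u hu i i.2.1 hi (Subgroup.mem_centralizer_singleton_iff.mp i.2.2)
        have hd60 : Nat.card (Ta ⊓ Subgroup.centralizer ({(u : Ga)} : Set Ga) : Subgroup Ga) ∣ 60 :=
          hTa ▸ Subgroup.card_dvd_of_le inf_le_left
        have hd50 : Nat.card (Ta ⊓ Subgroup.centralizer ({(u : Ga)} : Set Ga) : Subgroup Ga) ∣ 50 := by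
          obtain ⟨hct, -⟩ := h.order_five (u : Ga).1.2 (by rw [Subgroup.orderOf_coe, Subgroup.orderOf_coe]; exact hu)
          rw [← centralizer_five h.card hct, ← Subgroup.card_map_of_injective
            (f := G.subtype.comp Ga.subtype) (G.subtype_injective.comp Subtype.val_injective)]
          refine Subgroup.card_dvd_of_le ?_
          rintro _ ⟨w, hw, rfl⟩
          rw [Subgroup.mem_centralizer_singleton_iff]
          exact congrArg (fun q : Ga => ((q : G) : Perm α)) (Subgroup.mem_centralizer_singleton_iff.mp hw.2)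
        have h10 := Nat.dvd_gcd hd60 hd50
        rw [show Nat.gcd 60 50 = 10 from rfl] at h10
        exact (Nat.Coprime.dvd_of_dvd_mul_left (Nat.prime_two.coprime_iff_not_dvd.mpr hc2).symm
          (show _ ∣ 2 * 5 from h10))
      rw [← e]
      exact (Nat.mul_dvd_mul h2 h1).trans (dvd_of_eq rfl)
    have h1F : 1 < Nat.card (Sylow 5 Ga) := by
      by_contra hcon
      push Not at hcon
      haveI : Subsingleton (Sylow 5 Ga) := Finite.card_le_one_iff_subsingleton.mp hcon
      haveI : (F : Subgroup Ga).Normal := Sylow.normal_of_subsingleton F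
      have := hNT F
      rw [Subgroup.normalizer_eq_top_iff.mpr ‹_›, top_inf_eq, hTa] at this
      norm_num at this
    have hnot5 : ∀ u : Ga, orderOf u = 5 → u ∉ ρ.ker := by
      intro u hu hk
      have hall : ∀ R : Sylow 5 Ga, (R : Subgroup Ga) = Subgroup.zpowers u := by
        intro R
        have hfx : u • R = R := congrArg (fun σ : Perm (Sylow 5 Ga) => σ R) (MonoidHom.mem_ker.mp hk)
        have hun := Sylow.smul_eq_iff_mem_normalizer.mp hfx
        have hup : IsPGroup 5 (Subgroup.zpowers u) := IsPGroup.of_card (n := 1) (by rw [Nat.card_zpowers, hu, pow_one])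
        have hsup := hup.to_sup_of_normal_right' R.2 (Subgroup.zpowers_le.mpr hun)
        exact (Subgroup.eq_of_le_of_card_ge
          ((le_sup_left : Subgroup.zpowers u ≤ _).trans (R.3 hsup le_sup_right).le)
          (by rw [hF R, Nat.card_zpowers, hu])).symm
      haveI : Subsingleton (Sylow 5 Ga) := ⟨fun R R' => Sylow.ext ((hall R).trans (hall R').symm)⟩
      have := Finite.card_le_one_iff_subsingleton.mpr ‹Subsingleton (Sylow 5 Ga)›
      omega
    have hn6 : Nat.card (Sylow 5 Ga) = 6 := by
      have e := SmallSimple.card_sylow_mul F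
      rw [hGa] at e
      obtain ⟨k, hk⟩ : 5 ∣ Nat.card (Subgroup.normalizer ((F : Subgroup Ga) : Set Ga)) := by
        exact (dvd_of_eq (hF F).symm).trans (Subgroup.card_dvd_of_le Subgroup.le_normalizer)
      rw [hk] at e
      have hk' : Nat.card (Sylow 5 Ga) * k = 24 := by nlinarith
      have h24 : Nat.card (Sylow 5 Ga) ∣ 24 := ⟨k, hk'.symm⟩
      have h2 := card_sylow_modEq_one 5 Ga
      unfold Nat.ModEq at h2
      have := Nat.le_of_dvd (by norm_num) h24
      interval_cases Nat.card (Sylow 5 Ga) <;> omega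
    have hs : zz ^ 5 ∈ ρ.ker := by
      rcases not_order_ten_perm_six (z := ρ zz) (by rw [← Nat.card_eq_fintype_card, hn6])
        (by rw [← map_pow, ← hzz, pow_orderOf_eq_one, map_one]) with e | e
      · rw [MonoidHom.mem_ker, map_pow]; exact e
      · exfalso
        refine hnot5 (zz ^ 2) (by rw [orderOf_pow' zz two_ne_zero, hzz]; rfl) ?_
        rw [MonoidHom.mem_ker, map_pow]; exact e
    have hint : ∀ u ∈ ρ.ker, u ∈ Ta → u = 1 := by
      have hd : Nat.card (ρ.ker ⊓ Ta : Subgroup Ga) ∣ 20 := by
        refine (Subgroup.card_dvd_of_le (inf_le_inf_right Ta ?_)).trans (hNT F)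
        intro u hu
        exact Sylow.smul_eq_iff_mem_normalizer.mp
          (congrArg (fun σ : Perm (Sylow 5 Ga) => σ F) (MonoidHom.mem_ker.mp hu))
      have h5 : ¬ 5 ∣ Nat.card (ρ.ker ⊓ Ta : Subgroup Ga) := fun hd => by
        obtain ⟨u, hu⟩ := exists_prime_orderOf_dvd_card' (G := (ρ.ker ⊓ Ta : Subgroup Ga)) 5 hd
        rw [← Subgroup.orderOf_coe] at hu
        exact hnot5 u hu u.2.1
      haveI := hTn
      have h4 : Nat.card (ρ.ker ⊓ Ta : Subgroup Ga) ∣ 4 :=
        Nat.Coprime.dvd_of_dvd_mul_left ((Nat.Prime.coprime_iff_not_dvd (by norm_num : Nat.Prime 5)).mpr h5).symm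
          (show _ ∣ 5 * 4 from hd)
      intro u hu huT
      by_contra hne
      obtain ⟨x, hx⟩ := exists_prime_orderOf_dvd_card' (G := F) 5 (by rw [hF F])
      rw [← Subgroup.orderOf_coe] at hx
      set M := (ρ.ker ⊓ Ta : Subgroup Ga) with hM
      haveI : M.Normal := inferInstance
      -- an element of order five permutes a group of order at most four
      have hcommute : ∀ m ∈ M, (x : Ga) * m * (x : Ga)⁻¹ = m := by
        intro m hm
        let c : M →* M := MonoidHom.mk' (fun w => ⟨(x : Ga) * w * (x : Ga)⁻¹, Subgroup.Normal.conj_mem ‹_› _ w.2 _⟩)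
          fun v w => Subtype.ext (by simp [mul_assoc])
        have hcinj : Function.Injective c := fun v w e => Subtype.ext (by
          have := congrArg Subtype.val e
          exact mul_left_cancel (mul_right_cancel this))
        let σ : Perm {w : M // w ≠ 1} := Equiv.ofBijective
          (fun w => ⟨c w, fun e => w.2 (hcinj (e.trans (map_one c).symm))⟩)
          (Finite.injective_iff_bijective.mp fun v w e => Subtype.ext (hcinj (congrArg Subtype.val e)))
        have hσ : ∀ (k : ℕ) (w : {w : M // w ≠ 1}), (((σ ^ k) w : {w : M // w ≠ 1}) : M).1 =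
            (x : Ga) ^ k * w.1.1 * ((x : Ga) ^ k)⁻¹ := by
          intro k w
          induction k with
          | zero => simp
          | succ k ih =>
            rw [pow_succ' σ, Perm.mul_apply]
            show (x : Ga) * _ * (x : Ga)⁻¹ = _
            rw [ih, pow_succ' (x : Ga)]
            group
        have h5' : orderOf σ ∣ 5 := orderOf_dvd_of_pow_eq_one (Equiv.ext fun w => Subtype.ext (Subtype.ext (by
          rw [hσ, show (x : Ga) ^ 5 = 1 from orderOf_dvd_iff_pow_eq_one.mp (dvd_of_eq hx)]; simp)))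
        have h6 : orderOf σ ∣ 6 := by
          refine (orderOf_dvd_natCard σ).trans ?_
          rw [Nat.card_perm]
          have hc : Nat.card {w : M // w ≠ 1} = Nat.card M - 1 := by
            rw [Nat.card_eq_fintype_card, Nat.card_eq_fintype_card, Fintype.card_subtype_compl,
              Fintype.card_subtype_eq]
          rw [hc]
          exact Nat.factorial_dvd_factorial (show Nat.card M - 1 ≤ 3 by
            have := Nat.le_of_dvd (by norm_num) h4; omega)
        have hσ1 : σ = 1 := orderOf_eq_one_iff.mp (Nat.eq_one_of_dvd_coprimes (by norm_num) h5' h6)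
        rcases eq_or_ne (⟨m, hm⟩ : M) 1 with e | e
        · rw [show m = 1 from congrArg Subtype.val e]; simp
        · have := hσ 1 ⟨_, e⟩
          rw [pow_one, hσ1, pow_one] at this
          exact this.symm
      obtain ⟨m, hm⟩ := exists_prime_orderOf_dvd_card' (G := M) 2 (by
        have hpos : Nat.card M ≠ 1 := fun e1 => hne (by
          have := (Nat.card_eq_one_iff_unique.mp e1).1
          exact congrArg Subtype.val (Subsingleton.elim (⟨u, hu, huT⟩ : M) 1))
        have := Nat.le_of_dvd (by norm_num) h4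
        interval_cases Nat.card M <;> omega)
      rw [← Subgroup.orderOf_coe] at hm
      exact hcent5 x hx m m.2.2 hm (mul_inv_eq_iff_eq_mul.mp (hcommute m m.2)).symm
    intro g
    have hsT : zz ^ 5 ∉ Ta := fun hm => by
      have := Equiv.Perm.mem_alternatingGroup.mp (show ((zz ^ 5 : Ga) : G).1 ∈ T from hm).2
      rw [show ((zz ^ 5 : Ga) : G).1 = z ^ 5 from rfl, map_pow, hzsign] at this
      exact absurd this (by decide)
    have hk : g * zz ^ 5 * g⁻¹ ∈ ρ.ker := ρ.normal_ker.conj_mem _ hs g
    have hq : (g * zz ^ 5 * g⁻¹) * (zz ^ 5)⁻¹ ∈ Ta := by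
      refine ⟨SetLike.coe_mem _, Equiv.Perm.mem_alternatingGroup.mpr ?_⟩
      simp only [map_mul, map_inv, Subgroup.subtype_apply, MonoidHom.comp_apply, Subgroup.coe_mul, Subgroup.coe_inv]
      rw [mul_comm (Perm.sign ((g : G) : Perm α)), mul_inv_cancel_right, mul_inv_cancel]
    have := hint _ (mul_mem hk (inv_mem hs)) hq
    exact mul_inv_eq_iff_eq_mul.mp (mul_inv_eq_one.mp this)
  -- the counting argument
  obtain ⟨b, hb⟩ := Fintype.exists_ne_of_one_lt_card (by rw [h.card]; norm_num) a
  have hpairs : ∀ u v : α, u ≠ v → ∃ g ∈ G, g a = u ∧ g b = v := by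
    intro u v huv
    obtain ⟨g, hg⟩ := MulAction.exists_smul_eq G a u
    obtain ⟨k, hk⟩ := hcyc b ((g : Perm α)⁻¹ v) hb (fun e => huv (by
      rw [Perm.inv_eq_iff_eq] at e; exact (e.trans hg).symm))
    refine ⟨(g : Perm α) * z ^ k, G.mul_mem g.2 (G.pow_mem hzG k), ?_, ?_⟩
    · rw [Perm.mul_apply, Equiv.Perm.pow_apply_eq_self_of_apply_eq_self hza]; exact hg
    · rw [Perm.mul_apply, hk]; simp
  let st : α → α → Subgroup G := fun u v => MulAction.stabilizer G u ⊓ MulAction.stabilizer G v
  have hst : Nat.card (st a b) = 12 := by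
    have horb : MulAction.orbit Ga b = {v | v ≠ a} := by
      ext v
      constructor
      · rintro ⟨g, rfl⟩
        exact fun e => hb (smul_left_cancel (g : G) (e.trans (MulAction.mem_stabilizer_iff.mp g.2).symm))
      · intro hv
        obtain ⟨k, hk⟩ := hcyc b v hb hv
        exact ⟨zz ^ k, hk⟩
    have e := Subgroup.card_mul_index (MulAction.stabilizer Ga b)
    rw [MulAction.index_stabilizer, horb, hGa, show ({v : α | v ≠ a} : Set α).ncard = 10 by
      rw [Set.ncard_eq_toFinset_card', show ({v : α | v ≠ a} : Set α).toFinset = Finset.univ.erase a by ext; simp,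
        Finset.card_erase_of_mem (Finset.mem_univ a), Finset.card_univ, h.card]] at e
    have e' : Nat.card (st a b) = Nat.card (MulAction.stabilizer Ga b) := Nat.card_congr
      { toFun := fun g => ⟨⟨g, g.2.1⟩, g.2.2⟩
        invFun := fun g => ⟨g.1, g.1.2, g.2⟩
        left_inv := fun _ => rfl
        right_inv := fun _ => rfl }
    omega
  have hconj : ∀ (g : G) u v, ∀ w : G, w ∈ st (g • u) (g • v) ↔ g⁻¹ * w * g ∈ st u v := fun g u v w => by
    simp [st, MulAction.mem_stabilizer_iff, mul_smul, inv_smul_eq_iff]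
  have hcard : ∀ u v : α, u ≠ v → Nat.card (st u v) = 12 := by
    intro u v huv
    obtain ⟨g, hg, rfl, rfl⟩ := hpairs u v huv
    rw [← hst]
    exact Nat.card_congr
      { toFun := fun w => ⟨(⟨g, hg⟩ : G)⁻¹ * w * ⟨g, hg⟩, (hconj ⟨g, hg⟩ a b w).mp w.2⟩
        invFun := fun w => ⟨(⟨g, hg⟩ : G) * w * (⟨g, hg⟩ : G)⁻¹, (hconj ⟨g, hg⟩ a b _).mpr (by
          rw [show (⟨g, hg⟩ : G)⁻¹ * ((⟨g, hg⟩ : G) * w * (⟨g, hg⟩ : G)⁻¹) * ⟨g, hg⟩ = w by group]; exact w.2)⟩
        left_inv := fun w => Subtype.ext (by group)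
        right_inv := fun w => Subtype.ext (by group) }
  let Fix : α → α → Finset α := fun u v => Finset.univ.filter fun w => ∀ g ∈ st u v, g • w = w
  have hFixg : ∀ (g : G) u v, Fix (g • u) (g • v) = (Fix u v).map ((g : Perm α).toEmbedding) := by
    intro g u v
    ext w
    simp only [Fix, Finset.mem_filter, Finset.mem_univ, true_and, Finset.mem_map, Equiv.coe_toEmbedding]
    constructor
    · intro hw
      refine ⟨g⁻¹ • w, fun k hk => ?_, by exact smul_inv_smul g w⟩
      have := hw (g * k * g⁻¹) ((hconj g u v _).mpr (by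
        rw [show g⁻¹ * (g * k * g⁻¹) * g = k by group]; exact hk))
      rw [mul_smul, mul_smul] at this
      exact eq_inv_smul_iff.mpr this
    · rintro ⟨w', hw', rfl⟩ k hk
      have := hw' _ ((hconj g u v k).mp hk)
      rw [mul_smul, mul_smul, inv_smul_eq_iff] at this
      exact this
  set m := (Fix a b).card with hm
  have hmall : ∀ u v, u ≠ v → (Fix u v).card = m := fun u v huv => by
    obtain ⟨g, hg, hu, hv⟩ := hpairs u v huv
    have := hFixg ⟨g, hg⟩ a b
    rw [show (⟨g, hg⟩ : G) • a = u from hu, show (⟨g, hg⟩ : G) • b = v from hv] at this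
    rw [this, Finset.card_map]
  have hm3 : 3 ≤ m := by
    have hc1 : (z ^ 5) b ≠ b := fun e => hb ((hz5 b).mp e)
    have hc2 : (z ^ 5) b ≠ a := fun e => hb ((z ^ 5).injective (e.trans ((hz5 a).mpr rfl).symm))
    rw [show 3 = ({a, b, (z ^ 5) b} : Finset α).card by
      rw [Finset.card_insert_of_notMem (by simp [hb.symm, hc2.symm]), Finset.card_pair hc1.symm]]
    refine Finset.card_le_card fun w hw => ?_
    simp only [Finset.mem_insert, Finset.mem_singleton] at hw
    simp only [Fix, Finset.mem_filter, Finset.mem_univ, true_and]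
    intro k hk
    rcases hw with rfl | rfl | rfl
    · exact hk.1
    · exact hk.2
    · have := congrArg (fun q : Ga => (q : G) • b) (hcentral ⟨k, hk.1⟩)
      simp only [Subgroup.coe_mul, mul_smul] at this
      rw [show k • b = b from hk.2] at this
      exact this
  have hm10 : m ≤ 10 := by
    by_contra hcon
    push Not at hcon
    have hu : Fix a b = Finset.univ := Finset.eq_univ_of_card _ (by
      have := Finset.card_le_univ (Fix a b); rw [← hm] at this ⊢; rw [h.card] at this ⊢; omega)
    have hbot : st a b = ⊥ := (Subgroup.eq_bot_iff_forall _).mpr fun k hk => eq_of_smul_eq_smul (α := α) fun w => by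
      rw [one_smul]; exact (Finset.mem_filter.mp (hu ▸ Finset.mem_univ w : w ∈ Fix a b)).2 k hk
    rw [hbot, Subgroup.card_bot] at hst
    omega
  let S : Finset (α × α) := (Finset.univ : Finset α).offDiag
  have hS : S.card = 110 := by rw [Finset.offDiag_card, Finset.card_univ, h.card]
  have hfib : ∀ K ∈ S.image fun q => st q.1 q.2, (S.filter fun q => st q.1 q.2 = K).card = m * (m - 1) := by
    intro K hK
    obtain ⟨⟨u, v⟩, hq, rfl⟩ := Finset.mem_image.mp hK
    have huv : u ≠ v := (Finset.mem_offDiag.mp hq).2.2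
    rw [show (S.filter fun q => st q.1 q.2 = st u v) = (Fix u v).offDiag from ?_, Finset.offDiag_card, hmall u v huv,
      Nat.mul_sub_one]
    ext ⟨x, y⟩
    simp only [S, Finset.mem_filter, Finset.mem_offDiag, Finset.mem_univ, true_and, Fix]
    constructor
    · rintro ⟨hxy, e⟩
      have he : ∀ k, k ∈ st u v → k ∈ st x y := fun k hk => by rw [e]; exact hk
      exact ⟨fun k hk => (he k hk).1, fun k hk => (he k hk).2, hxy⟩
    · rintro ⟨hx, hy, hxy⟩
      exact ⟨hxy, (Subgroup.eq_of_le_of_card_ge (H := st u v) (K := st x y) (fun k hk => ⟨hx k hk, hy k hk⟩)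
        (by rw [hcard u v huv, hcard x y hxy])).symm⟩
  have hsum := Finset.card_eq_sum_card_image (fun q => st q.1 q.2) S
  rw [Finset.sum_congr rfl hfib, Finset.sum_const, smul_eq_mul, hS] at hsum
  have hdvd : m * (m - 1) ∣ 110 := ⟨_, hsum.trans (mul_comm _ _)⟩
  interval_cases m <;> revert hdvd <;> decide

end Cfsg.Agent.Degree11
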