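import Cfsg.Agent.Lib.Degree11.Basic
import Cfsg.Agent.Lib.SmallSimple.Basic

/-! The order and simplicity of transitive groups of even permutations of degree eleven. -/

set_option autoImplicit false

namespace Cfsg.Agent.Degree11

open Equiv Equiv.Perm Subgroup

variable {α : Type*} [Fintype α] [DecidableEq α] {G : Type*} [Group G] [Finite G]

theorem centralizer_sylow_eleven (f : G →* Perm α) (hf : Function.Injective f) (hGd : Good f.range)
    (P : Sylow 11 G) (hP : Nat.card P = 11) :
    Subgroup.centralizer ((P : Subgroup G) : Set G) = (P : Subgroup G) := by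
  haveI : Fact (Nat.Prime 11) := ⟨by norm_num⟩
  haveI : IsCyclic P := isCyclic_of_prime_card hP
  refine le_antisymm (fun y hy => ?_) (Subgroup.le_centralizer (P : Subgroup G))
  obtain ⟨x, hx⟩ := IsCyclic.exists_ofOrder_eq_natCard (α := P)
  rw [hP, ← Subgroup.orderOf_coe, ← orderOf_injective f hf] at hx
  obtain ⟨ht, -, -⟩ := hGd.order_eleven ⟨_, rfl⟩ hx
  obtain ⟨k, hk⟩ := mem_zpowers_of_commute (y := f y) hGd.card ht
    ((show Commute y (x : G) from (Subgroup.mem_centralizer_iff.mp hy x x.2).symm).map f)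
  simp only [← map_zpow] at hk
  exact hf hk ▸ (P : Subgroup G).zpow_mem x.2 k

theorem card_range (f : G →* Perm α) (hf : Function.Injective f) : Nat.card f.range = Nat.card G :=
  (Nat.card_congr (MonoidHom.ofInjective hf).toEquiv).symm

theorem card_structure (f : G →* Perm α) (hf : Function.Injective f) (hGd : Good f.range)
    (heven : f.range ≤ alternatingGroup α)
    (htr : ∀ a b : α, ∃ g, f g a = b) (P : Sylow 11 G) :
    Nat.card P = 11 ∧ (Nat.card G = 11 ∨ (∃ n, Nat.card G = 55 * n ∧ n % 11 = 1 ∧ n ∣ 3456 ∧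
      Nat.card (Sylow 11 G) = n ∧ Nat.card (normalizer ((P : Subgroup G) : Set G)) = 55)) := by
  haveI : Fact (Nat.Prime 11) := ⟨by norm_num⟩
  letI : MulAction G α := MulAction.compHom α f
  haveI : MulAction.IsPretransitive G α := ⟨htr⟩
  have hcd : Nat.card G ∣ 2 ^ 7 * 3 ^ 3 * 5 * 11 := by
    rw [← card_range f hf]; exact hGd.card_dvd heven
  obtain ⟨ω⟩ : Nonempty α := Fintype.card_pos_iff.mp (by rw [hGd.card]; norm_num)
  have h11 : 11 ∣ Nat.card G := by
    have h := (MulAction.stabilizer G ω).index_dvd_card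
    rwa [MulAction.index_stabilizer_of_transitive, Nat.card_eq_fintype_card, hGd.card] at h
  obtain ⟨m, hm⟩ := h11
  have hmd : m ∣ 2 ^ 7 * 3 ^ 3 * 5 := by
    rw [hm, mul_comm (2 ^ 7 * 3 ^ 3 * 5) 11] at hcd
    exact Nat.dvd_of_mul_dvd_mul_left (by norm_num) hcd
  have hm11 : ¬ 11 ∣ m := fun h => by have := h.trans hmd; norm_num at this
  have hP : Nat.card P = 11 := by
    simpa using SmallSimple.card_sylow_of_eq (k := 1) P (by rw [pow_one, hm]) hm11
  refine ⟨hP, ?_⟩
  set N := normalizer ((P : Subgroup G) : Set G) with hN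
  have hC := centralizer_sylow_eleven f hf hGd P hP
  obtain ⟨e, hed, heN⟩ : ∃ e, e ∣ 10 ∧ e * 11 = Nat.card N := ⟨_,
    SmallSimple.relIndex_dvd_of_card_prime (p := 11) (P : Subgroup G) hP,
    by rw [← SmallSimple.card_normalizer_eq (P : Subgroup G), hC, hP]⟩
  have hodd : ¬ 2 ∣ e := by
    intro h2
    haveI : Fact (Nat.Prime 2) := ⟨Nat.prime_two⟩
    obtain ⟨h, hh⟩ := exists_prime_orderOf_dvd_card' (G := N) 2 (heN ▸ Dvd.dvd.mul_right h2 11)
    rw [← Subgroup.orderOf_coe, ← orderOf_injective f hf] at hh
    obtain ⟨mm, -, hm5, hsupp, hsign⟩ := hGd.order_two ⟨_, rfl⟩ hh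
    have hone : (Finset.univ.filter fun x => f h x = x).card ≤ 1 := by
      rw [Finset.card_le_one]
      intro u hu v hv
      simp only [Finset.mem_filter, Finset.mem_univ, true_and] at hu hv
      haveI : IsCyclic P := isCyclic_of_prime_card hP
      obtain ⟨x, hx⟩ := IsCyclic.exists_ofOrder_eq_natCard (α := P)
      rw [hP, ← Subgroup.orderOf_coe, ← orderOf_injective f hf] at hx
      obtain ⟨ht, hsup, -⟩ := hGd.order_eleven ⟨_, rfl⟩ hx
      have hcyc : (f (x : G)).IsCycle := Equiv.Perm.card_cycleType_eq_one.mp (by rw [ht]; rfl)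
      obtain ⟨j, hj⟩ := hcyc.exists_zpow_eq (Equiv.Perm.mem_support.mp (hsup ▸ Finset.mem_univ u))
        (Equiv.Perm.mem_support.mp (hsup ▸ Finset.mem_univ v))
      by_contra huv
      set y := (x : G) ^ j with hy
      have hyP : y ∈ (P : Subgroup G) := (P : Subgroup G).zpow_mem x.2 j
      have hcy : (h : G) * y * (h : G)⁻¹ ∈ (P : Subgroup G) := (Subgroup.mem_normalizer_iff.mp h.2 y).mp hyP
      have hfix : f ((h : G) * y * (h : G)⁻¹) u = f y u := by
        rw [map_mul, map_mul, map_inv, Perm.mul_apply, Perm.mul_apply,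
          show (f h)⁻¹ u = u from Perm.inv_eq_iff_eq.mpr hu.symm, hy, map_zpow, hj, hv]
      obtain ⟨i, hi⟩ := (Subgroup.mem_zpowers_iff).mp (show (h : G) * y * (h : G)⁻¹ ∈ Subgroup.zpowers (x : G) by
        rw [Subgroup.eq_of_le_of_card_ge (H := Subgroup.zpowers (x : G)) (K := (P : Subgroup G))
          (Subgroup.zpowers_le.mpr x.2) (by rw [hP, Nat.card_zpowers, ← orderOf_injective f hf, hx])]
        exact hcy)
      have heq : f ((x : G) ^ i) = f ((x : G) ^ j) := by
        rw [← hi, hy] at hfix
        rw [map_zpow, map_zpow] at hfix ⊢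
        refine Equiv.ext fun v => ?_
        obtain ⟨t, rfl⟩ := hcyc.exists_zpow_eq (Equiv.Perm.mem_support.mp (hsup ▸ Finset.mem_univ u))
          (Equiv.Perm.mem_support.mp (hsup ▸ Finset.mem_univ v))
        rw [← Perm.mul_apply, ← Perm.mul_apply, (Commute.zpow_zpow_self _ i t).eq,
          (Commute.zpow_zpow_self _ j t).eq, Perm.mul_apply, Perm.mul_apply, hfix]
      have hcom : (h : G) * y = y * (h : G) := by
        rw [← mul_inv_eq_iff_eq_mul, ← hi, hy]
        exact hf heq
      have hy1 : y ≠ 1 := fun e => huv (by rw [← hj, ← map_zpow, ← hy, e, map_one]; rfl)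
      have hxz : (x : G) ∈ Subgroup.zpowers y := by
        haveI : Fact (Nat.Prime (Nat.card (Subgroup.zpowers (x : G)))) := ⟨by
          rw [Nat.card_zpowers, ← orderOf_injective f hf, hx]; norm_num⟩
        have h1 : (⟨y, Subgroup.zpow_mem_zpowers _ j⟩ : Subgroup.zpowers (x : G)) ≠ 1 := fun e =>
          hy1 (congrArg Subtype.val e)
        obtain ⟨i', hi'⟩ := Subgroup.mem_zpowers_iff.mp
          (mem_zpowers_of_prime_card (g' := (⟨(x : G), Subgroup.mem_zpowers _⟩ : Subgroup.zpowers (x : G))) rfl h1)
        exact ⟨i', congrArg Subtype.val hi'⟩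
      obtain ⟨i', hi'⟩ := hxz
      have hcomx : Commute (h : G) (x : G) := hi' ▸ (show Commute (h : G) y from hcom).zpow_right i'
      obtain ⟨k, hk : f (x : G) ^ k = f (h : G)⟩ := mem_zpowers_of_commute hGd.card ht (hcomx.map f)
      have h2' : orderOf (f (h : G)) ∣ 11 := by
        rw [← hk]; exact (orderOf_dvd_of_mem_zpowers ⟨k, rfl⟩).trans (dvd_of_eq hx)
      rw [hh] at h2'
      norm_num at h2'
    have h0 := fixed_card_add (f h)
    rw [hsupp, hGd.card] at h0
    have hm' : mm = 5 := by omega
    have hs : Perm.sign (f h) = 1 := Equiv.Perm.mem_alternatingGroup.mp (heven ⟨_, rfl⟩)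
    rw [hsign, hm'] at hs
    exact absurd hs (by decide)
  have he : e = 1 ∨ e = 5 := by
    have := Nat.le_of_dvd (by norm_num) hed
    interval_cases e <;> simp_all (config := { decide := true })
  rcases he with rfl | rfl
  · left
    have hle : N ≤ Subgroup.centralizer ((P : Subgroup G) : Set G) := by
      rw [hC]
      exact (Subgroup.eq_of_le_of_card_ge (Subgroup.le_normalizer) (by rw [hP, ← heN])).ge
    have hcomp := MonoidHom.ker_transferSylow_isComplement' P hle
    set K := (MonoidHom.transferSylow P hle).ker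
    haveI : MulAction.IsPreprimitive G α := MulAction.IsPreprimitive.of_prime_card (by
      rw [Nat.card_eq_fintype_card, hGd.card]; norm_num)
    have hK : Nat.card K = m := by
      have := hcomp.card_mul_card
      rw [hP, hm] at this
      exact Nat.eq_of_mul_eq_mul_right (by norm_num) (this.trans (mul_comm 11 m))
    have hfp : MulAction.fixedPoints K α = Set.univ := by
      by_contra hne
      haveI := MulAction.IsQuasiPreprimitive.isPretransitive_of_normal (G := G) (X := α) hne
      have h := (MulAction.stabilizer K ω).index_dvd_card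
      rw [MulAction.index_stabilizer_of_transitive, Nat.card_eq_fintype_card, hGd.card, hK] at h
      exact hm11 h
    have hbot : K = ⊥ := (Subgroup.eq_bot_iff_forall _).mpr fun k hk => hf (by
      rw [map_one]
      exact Equiv.ext fun v => (Set.eq_univ_iff_forall.mp hfp v ⟨k, hk⟩ : _))
    rw [hbot, Subgroup.card_bot] at hK
    rw [hm, ← hK]
  · right
    have hn := SmallSimple.card_sylow_mul P
    rw [← heN] at hn
    have hmn : 5 * Nat.card (Sylow 11 G) = m := by
      rw [hm] at hn; linarith
    refine ⟨_, by rw [hm, ← hmn]; ring, card_sylow_modEq_one 11 G, ?_, rfl, heN.symm⟩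
    rw [← hmn] at hmd
    exact Nat.dvd_of_mul_dvd_mul_left (k := 5) (by norm_num) (hmd.trans (dvd_of_eq (by norm_num)))

theorem centralizer_five_card (f : G →* Perm α) (hf : Function.Injective f) (hGd : Good f.range)
    (heven : f.range ≤ alternatingGroup α) {x : G} (hx : orderOf x = 5) :
    Subgroup.centralizer ({x} : Set G) = Subgroup.zpowers x := by
  obtain ⟨hct, -⟩ := hGd.order_five ⟨x, rfl⟩ (by rw [orderOf_injective f hf, hx])
  have hle : Subgroup.zpowers x ≤ Subgroup.centralizer ({x} : Set G) :=
    Subgroup.zpowers_le.mpr (Subgroup.mem_centralizer_singleton_iff.mpr rfl)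
  have hd : Nat.card (Subgroup.centralizer ({x} : Set G)) ∣ 50 := by
    rw [← centralizer_five hGd.card hct, ← Subgroup.card_map_of_injective (f := f) hf]
    refine Subgroup.card_dvd_of_le ?_
    rintro _ ⟨y, hy, rfl⟩
    rw [Subgroup.mem_centralizer_singleton_iff, ← map_mul, ← map_mul, Subgroup.mem_centralizer_singleton_iff.mp hy]
  have h25 : ¬ 25 ∣ Nat.card (Subgroup.centralizer ({x} : Set G)) := by
    intro h
    have := (h.trans (Subgroup.card_subgroup_dvd_card _)).trans
      (card_range f hf ▸ hGd.card_dvd heven)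
    norm_num at this
  have h2 : ¬ 2 ∣ Nat.card (Subgroup.centralizer ({x} : Set G)) := by
    intro h
    haveI : Fact (Nat.Prime 2) := ⟨Nat.prime_two⟩
    obtain ⟨y, hy⟩ := exists_prime_orderOf_dvd_card' (G := Subgroup.centralizer ({x} : Set G)) 2 h
    rw [← Subgroup.orderOf_coe] at hy
    have hcomm : Commute (y : G) x := Subgroup.mem_centralizer_singleton_iff.mp y.2
    have h10 : orderOf (f ((y : G) * x)) = 10 := by
      rw [orderOf_injective f hf, hcomm.orderOf_mul_eq_mul_orderOf_of_coprime (by rw [hy, hx]; norm_num), hy, hx]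
    have h1 := (hGd.order_ten ⟨_, rfl⟩ h10).1
    rw [Equiv.Perm.mem_alternatingGroup.mp (heven ⟨_, rfl⟩)] at h1
    exact absurd h1 (by decide)
  refine (Subgroup.eq_of_le_of_card_ge hle ?_).symm
  rw [Nat.card_zpowers, hx]
  have := Nat.le_of_dvd (by norm_num) hd
  by_contra hlt
  push Not at hlt
  interval_cases Nat.card (Subgroup.centralizer ({x} : Set G)) <;> omega

theorem structure_main (f : G →* Perm α) (hf : Function.Injective f) (hGd : Good f.range)
    (heven : f.range ≤ alternatingGroup α)
    (htr : ∀ a b : α, ∃ g, f g a = b) (hns : ¬ Group.IsSolvable G) :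
    IsSimpleGroup G ∧ (Nat.card G = 660 ∨ Nat.card G = 7920) := by
  classical
  haveI : Fact (Nat.Prime 11) := ⟨by norm_num⟩
  haveI : Fact (Nat.Prime 5) := ⟨by norm_num⟩
  letI : MulAction G α := MulAction.compHom α f
  haveI : MulAction.IsPretransitive G α := ⟨htr⟩
  haveI : MulAction.IsPreprimitive G α := MulAction.IsPreprimitive.of_prime_card (by
    rw [Nat.card_eq_fintype_card, hGd.card]; norm_num)
  obtain ⟨P⟩ : Nonempty (Sylow 11 G) := inferInstance
  obtain ⟨hP, hcases⟩ := card_structure f hf hGd heven htr P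
  rcases hcases with h11 | ⟨n, hn, hn11, hnd, hsy, hN⟩
  · haveI : IsCyclic G := isCyclic_of_prime_card h11
    exact absurd (isSolvable_of_comm fun a b => (IsCyclic.commGroup (α := G)).mul_comm a b) hns
  have hn1 : n ≠ 1 := by
    intro h
    have hnor : ((P : Subgroup G)).Normal := by
      rw [← Subgroup.normalizer_eq_top_iff]
      exact Subgroup.eq_top_of_card_eq _ (by rw [hN, hn, h, mul_one])
    have hq : Nat.card (G ⧸ (P : Subgroup G)) = 5 := by
      have := Subgroup.card_eq_card_quotient_mul_card_subgroup (P : Subgroup G)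
      rw [hn, h, hP] at this
      omega
    haveI : IsCyclic (G ⧸ (P : Subgroup G)) := isCyclic_of_prime_card hq
    haveI : IsCyclic P := isCyclic_of_prime_card hP
    haveI : Group.IsSolvable (G ⧸ (P : Subgroup G)) :=
      isSolvable_of_comm fun a b => (IsCyclic.commGroup (α := G ⧸ (P : Subgroup G))).mul_comm a b
    haveI : Group.IsSolvable P := isSolvable_of_comm fun a b => (IsCyclic.commGroup (α := P)).mul_comm a b
    exact hns (solvable_of_ker_le_range (P : Subgroup G).subtype (QuotientGroup.mk' (P : Subgroup G)) (by simp))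
  obtain ⟨ω⟩ : Nonempty α := Fintype.card_pos_iff.mp (by rw [hGd.card]; norm_num)
  haveI : Nontrivial G := by
    rw [← Finite.one_lt_card_iff_nontrivial, hn]
    have : n ≠ 0 := fun h => by simp [h] at hn11
    omega
  refine ⟨⟨fun K hK => ?_⟩, ?_⟩
  · rcases eq_or_ne K ⊥ with h | hKne
    · exact Or.inl h
    right
    haveI := hK
    have hfp : MulAction.fixedPoints K α ≠ Set.univ := fun h => hKne ((Subgroup.eq_bot_iff_forall _).mpr fun k hk =>
      hf (by rw [map_one]; exact Equiv.ext fun v => (Set.eq_univ_iff_forall.mp h v ⟨k, hk⟩ : _)))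
    haveI hKtr := MulAction.IsQuasiPreprimitive.isPretransitive_of_normal (G := G) (X := α) hfp
    obtain ⟨Q⟩ : Nonempty (Sylow 11 K) := inferInstance
    have hGdK : Good (f.comp K.subtype).range := hGd.mono (by rintro _ ⟨k, rfl⟩; exact ⟨_, rfl⟩)
    obtain ⟨hQ, hQc⟩ := card_structure (f.comp K.subtype) (hf.comp K.subtype_injective) hGdK
      (le_trans (by rintro _ ⟨k, rfl⟩; exact ⟨_, rfl⟩) heven)
      (fun a b => by obtain ⟨k, hk⟩ := MulAction.exists_smul_eq K a b; exact ⟨k, hk⟩) Q
    let P' : Sylow 11 G := Sylow.ofCard ((Q : Subgroup K).map K.subtype) (by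
      rw [Subgroup.card_map_of_injective K.subtype_injective, hQ, ← P.card_eq_multiplicity, hP])
    obtain ⟨-, hP'⟩ := card_structure f hf hGd heven htr P'
    rcases hP' with h | ⟨n', hn', -, -, -, hN'⟩
    · omega
    rcases hQc with hK11 | ⟨k, hk, -, -, -, hNK⟩
    · exfalso
      have hKP : K = (P' : Subgroup G) := by
        refine (Subgroup.eq_of_le_of_card_ge (Subgroup.map_subtype_le _) ?_).symm
        rw [Subgroup.card_map_of_injective K.subtype_injective, hQ, hK11]
      have htop : normalizer ((P' : Subgroup G) : Set G) = ⊤ := by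
        rw [← hKP]; exact Subgroup.normalizer_eq_top_iff.mpr hK
      rw [htop, Subgroup.card_top, hn] at hN'
      omega
    · have hle : normalizer ((P' : Subgroup G) : Set G) ≤ K := by
        have hsub : (normalizer ((Q : Subgroup K) : Set K)).map K.subtype ≤
            normalizer ((P' : Subgroup G) : Set G) := Subgroup.le_normalizer_map _
        rw [← Subgroup.eq_of_le_of_card_ge hsub (by
          rw [Subgroup.card_map_of_injective K.subtype_injective, hNK, hN'])]
        exact Subgroup.map_subtype_le _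
      have h := Sylow.normalizer_sup_eq_top (N := K) Q
      rw [show (Q : Subgroup K).map K.subtype = (P' : Subgroup G) from rfl] at h
      rwa [sup_eq_right.mpr hle] at h
  · have hcases : n = 12 ∨ n = 144 ∨ n = 1728 := by
      have h : ∀ d ∈ Nat.divisors 3456, d % 11 = 1 → d = 1 ∨ d = 12 ∨ d = 144 ∨ d = 1728 := by decide +kernel
      rcases h n (Nat.mem_divisors.mpr ⟨hnd, by norm_num⟩) hn11 with h | h
      · exact absurd h hn1
      · exact h
    rcases hcases with rfl | rfl | rfl
    · exact Or.inl hn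
    · exact Or.inr hn
    exfalso
    obtain ⟨F⟩ : Nonempty (Sylow 5 G) := inferInstance
    have hF : Nat.card F = 5 := by
      simpa using SmallSimple.card_sylow_of_eq (k := 1) (m := 11 * 1728) F (by rw [hn]; norm_num) (by norm_num)
    haveI : IsCyclic F := isCyclic_of_prime_card hF
    obtain ⟨x, hx⟩ := IsCyclic.exists_ofOrder_eq_natCard (α := F)
    rw [hF, ← Subgroup.orderOf_coe] at hx
    have hFx : (F : Subgroup G) = Subgroup.zpowers (x : G) :=
      (Subgroup.eq_of_le_of_card_ge (Subgroup.zpowers_le.mpr x.2) (by rw [Nat.card_zpowers, hx, hF])).symm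
    have hC : Subgroup.centralizer ((F : Subgroup G) : Set G) = (F : Subgroup G) := by
      refine le_antisymm ?_ (Subgroup.le_centralizer (F : Subgroup G))
      refine (Subgroup.centralizer_le (Set.singleton_subset_iff.mpr x.2)).trans ?_
      rw [centralizer_five_card f hf hGd heven hx]
      exact hFx.ge
    have e1 := SmallSimple.card_normalizer_eq (F : Subgroup G)
    rw [hC, hF] at e1
    have hd := SmallSimple.relIndex_dvd_of_card_prime (p := 5) (F : Subgroup G) hF
    set d := (F : Subgroup G).relIndex (normalizer ((F : Subgroup G) : Set G)) with hd'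
    rw [hC, ← hd'] at hd
    have e2 := SmallSimple.card_sylow_mul F
    rw [← e1, hn] at e2
    have h5 := card_sylow_modEq_one 5 G
    unfold Nat.ModEq at h5
    have := Nat.le_of_dvd (by norm_num) hd
    interval_cases d <;> omega

end Cfsg.Agent.Degree11
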